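import Cfsg.Agent.H110.D.Root

/-!
# The root datum of type `D` in `J` (helper110, for S2295)
-/

set_option autoImplicit false

namespace Cfsg.Agent.H110.D

open Equiv Matrix
open Cfsg.Agent.ChevalleyStructure.SteinbergBruhat

variable {m : ℕ} {F : Type*} [Field F] {J : Type*} [Group J]

/-- The root datum. -/
noncomputable def Pre.rd (P : Pre (Fin (m + 2)) F J) : RData J (Root m) (Sim m) where
  pos r := 0 < r.ht
  neg := Root.neg
  sim := simR
  refl := Root.refl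
  X r := Subgroup.closure {x | ∃ a b t, r.1 = s(a, b) ∧ x = P.Y a b t}
  H := P.H
  n i := P.WW (sa i) (sb i) 1

namespace Pre

variable {P : Pre (Fin (m + 2)) F J}

namespace S2

variable (A : P.S2)
include A

/-- root subgroups -/
def XR (A : P.S2) (a b : Sg m) : Subgroup J where
  carrier := {x | ∃ t, x = P.Y a b t}
  one_mem' := ⟨0, A.s1.Y_zero.symm⟩
  mul_mem' := by
    rintro _ _ ⟨t, rfl⟩ ⟨u, rfl⟩
    exact ⟨t + u, (A.s1.Y_add t u).symm⟩
  inv_mem' := by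
    rintro _ ⟨t, rfl⟩
    exact ⟨-t, A.s1.Y_inv t⟩

theorem X_mkR (a b : Sg m) (h : idx a ≠ idx b) : P.rd.X (mkR a b h) = A.XR a b := by
  apply le_antisymm
  · change Subgroup.closure _ ≤ _
    rw [Subgroup.closure_le]
    rintro x ⟨c, d, t, e, rfl⟩
    have e' : s(a, b) = s(c, d) := e
    rw [Sym2.eq_iff] at e'
    rcases e' with ⟨rfl, rfl⟩ | ⟨rfl, rfl⟩
    · exact ⟨t, rfl⟩
    · exact ⟨-t, A.s1.Y_symm h t⟩
  · rintro x ⟨t, rfl⟩
    exact Subgroup.subset_closure ⟨a, b, t, rfl, rfl⟩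

theorem mem_X (r : Root m) (x : J) : x ∈ P.rd.X r →
    ∃ a b, ∃ h : idx a ≠ idx b, ∃ t, r = mkR a b h ∧ x = P.Y a b t := by
  revert r
  refine Root.ind fun a b h hx => ?_
  rw [A.X_mkR] at hx
  obtain ⟨t, rfl⟩ := hx
  exact ⟨a, b, h, t, rfl, rfl⟩

theorem conj_H {h : J} (hh : h ∈ P.H) {a b : Sg m} (hab : idx a ≠ idx b) : ∀ x ∈ A.XR a b,
    h * x * h⁻¹ ∈ A.XR a b := by
  rintro x ⟨t, rfl⟩
  obtain ⟨κ, -, h2, -⟩ := A.s1.Scal_of_mem hh a b hab
  exact ⟨κ * t, h2 t⟩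

theorem conj_n (i : Sim m) {a b : Sg m} (hab : idx a ≠ idx b) (t : F) :
    P.rd.n i * P.Y a b t * (P.rd.n i)⁻¹ ∈ A.XR (rho (sa i) (sb i) a) (rho (sa i) (sb i) b) := by
  obtain ⟨κ, -, h2, -⟩ := A.s1.WW_conj (sab i) a b hab
  exact ⟨κ * t, h2 t⟩

/-- the commutator relations -/
theorem CM {a b c d : Sg m} (hab : idx a ≠ idx b) (hcd : idx c ≠ idx d) (h1 : 0 < wt a + wt b)
    (h2 : 0 < wt c + wt d) (T : Subgroup J)
    (hT : ∀ p q (_ : idx p ≠ idx q), wt a + wt b < wt p + wt q → wt c + wt d < wt p + wt q → A.XR p q ≤ T)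
    (t u : F) : P.Y a b t * P.Y c d u * (P.Y a b t)⁻¹ * (P.Y c d u)⁻¹ ∈ T := by
  have hcomm : ∀ {x y : J}, Commute x y → x * y * x⁻¹ * y⁻¹ ∈ T := by
    intro x y h
    rw [h.eq]
    have : y * x * x⁻¹ * y⁻¹ = 1 := by group
    rw [this]; exact T.one_mem
  -- the case of a common index
  have main : ∀ a b c d : Sg m, idx a ≠ idx b → idx c ≠ idx d → idx a = idx c → 0 < wt a + wt b →
      0 < wt c + wt d →
      (∀ p q (_ : idx p ≠ idx q), wt a + wt b < wt p + wt q → wt c + wt d < wt p + wt q → A.XR p q ≤ T) →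
      ∀ t u : F, P.Y a b t * P.Y c d u * (P.Y a b t)⁻¹ * (P.Y c d u)⁻¹ ∈ T := by
    intro a b c d hab hcd hac h1 h2 hT t u
    rcases eq_or_ng hac with rfl | hac'
    · -- same first member
      by_cases hbd : idx b = idx d
      · rcases eq_or_ng hbd with rfl | hbd'
        · apply hcomm
          rw [Commute, SemiconjBy, ← A.s1.Y_add, ← A.s1.Y_add, add_comm t u]
        · have hd : d = ng b := by rw [hbd', ng_ng]
          subst hd
          exact hcomm (A.comm4 hab t u)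
      · exact hcomm (A.s1.comm2 hab hcd hbd t u)
    · have hc : c = ng a := by rw [hac', ng_ng]
      subst hc
      by_cases hbd : idx b = idx d
      · rcases eq_or_ng hbd with rfl | hbd'
        · exact hcomm (A.comm4' hab t u)
        · have hd : d = ng b := by rw [hbd', ng_ng]
          subst hd
          rw [wt_ng, wt_ng] at h2
          omega
      · have hcd' : idx a ≠ idx d := by simpa using hcd
        have e := A.s1.comm1 hab.symm hbd hcd' (-t) u
        rw [A.s1.Y_symm hab, neg_neg] at e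
        have : P.Y a b t * P.Y (ng a) d u * (P.Y a b t)⁻¹ * (P.Y (ng a) d u)⁻¹ = P.Y b d (-(-t * u)) := by
          rw [e]; group
        rw [this]
        refine hT b d hbd ?_ ?_ ⟨_, rfl⟩
        · rw [wt_ng] at h2; omega
        · rw [wt_ng] at h2 ⊢; omega
  by_cases hac : idx a = idx c
  · exact main a b c d hab hcd hac h1 h2 hT t u
  by_cases had : idx a = idx d
  · have := main a b d c hab hcd.symm had h1 (by omega)
      (fun p q h k1 k2 => hT p q h k1 (by omega)) t (-u)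
    rw [A.s1.Y_symm hcd, neg_neg] at this
    exact this
  by_cases hbc : idx b = idx c
  · have := main b a c d hab.symm hcd hbc (by omega) h2
      (fun p q h k1 k2 => hT p q h (by omega) k2) (-t) u
    rw [A.s1.Y_symm hab, neg_neg] at this
    exact this
  by_cases hbd : idx b = idx d
  · have := main b a d c hab.symm hcd.symm hbd (by omega) (by omega)
      (fun p q h k1 k2 => hT p q h (by omega) (by omega)) (-t) (-u)
    rw [A.s1.Y_symm hab, A.s1.Y_symm hcd, neg_neg, neg_neg] at this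
    exact this
  exact hcomm (A.comm3 hab hac had hbc hbd hcd t u)

theorem comm (r s : Root m) (hr : 0 < r.ht) (hs' : 0 < s.ht) (x : J) (hx : x ∈ P.rd.X r) (y : J)
    (hy : y ∈ P.rd.X s) :
    x * y * x⁻¹ * y⁻¹ ∈ ⨆ t, ⨆ (_ : r.ht < Root.ht t ∧ s.ht < Root.ht t), P.rd.X t := by
  obtain ⟨a, b, hab, t, rfl, rfl⟩ := A.mem_X _ _ hx
  obtain ⟨c, d, hcd, u, rfl, rfl⟩ := A.mem_X _ _ hy
  refine A.CM hab hcd hr hs' _ ?_ t u
  intro p q hpq h1 h2
  rw [← A.X_mkR p q hpq]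
  exact le_iSup₂_of_le (f := fun t (_ : (mkR a b hab).ht < Root.ht t ∧ (mkR c d hcd).ht < Root.ht t) => P.rd.X t)
    (mkR p q hpq) ⟨h1, h2⟩ le_rfl

theorem X_sim (i : Sim m) : P.rd.X (P.rd.sim i) = A.XR (sa i) (sb i) := A.X_mkR _ _ (sab i)

theorem X_nsim (i : Sim m) : P.rd.X (P.rd.neg (P.rd.sim i)) = A.XR (ng (sa i)) (ng (sb i)) := by
  change P.rd.X (simR i).neg = _
  rw [simR, Root.neg, im_mkR, A.X_mkR]

theorem n_mem (i : Sim m) : P.rd.n i ∈ P.rd.X (P.rd.sim i) ⊔ P.rd.X (P.rd.neg (P.rd.sim i)) ⊔ P.rd.H := by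
  rw [A.X_sim, A.X_nsim]
  refine (le_sup_left : _ ≤ A.XR (sa i) (sb i) ⊔ A.XR (ng (sa i)) (ng (sb i)) ⊔ P.rd.H) ?_
  have h1 : P.Y (sa i) (sb i) 1 ∈ A.XR (sa i) (sb i) := ⟨_, rfl⟩
  have h2 : P.Y (ng (sa i)) (ng (sb i)) 1⁻¹ ∈ A.XR (ng (sa i)) (ng (sb i)) := ⟨_, rfl⟩
  exact Subgroup.mul_mem _ (Subgroup.mul_mem _ (Subgroup.mem_sup_left h1) (Subgroup.mem_sup_right h2))
    (Subgroup.mem_sup_left h1)

theorem X_neg (i : Sim m) : ∀ x ∈ P.rd.X (P.rd.neg (P.rd.sim i)), x = 1 ∨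
    ∃ a ∈ P.rd.X (P.rd.sim i), ∃ h ∈ P.rd.H, ∃ b ∈ P.rd.X (P.rd.sim i), x = a * (P.rd.n i * h) * b := by
  rw [A.X_sim, A.X_nsim]
  rintro x ⟨t, rfl⟩
  by_cases ht : t = 0
  · left; rw [ht, A.s1.Y_zero]
  right
  have ht' : t⁻¹ ≠ 0 := inv_ne_zero ht
  refine ⟨(P.Y (sa i) (sb i) t⁻¹)⁻¹, (A.XR _ _).inv_mem ⟨_, rfl⟩,
    (P.WW (sa i) (sb i) 1)⁻¹ * P.WW (sa i) (sb i) t⁻¹, ?_, (P.Y (sa i) (sb i) t⁻¹)⁻¹,
    (A.XR _ _).inv_mem ⟨_, rfl⟩, ?_⟩
  · rw [A.s1.WW_inv]
    exact A.s1.WW_mul_mem (sab i) (neg_ne_zero.2 one_ne_zero) ht'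
  · change _ = _ * (P.WW (sa i) (sb i) 1 * _) * _
    rw [mul_inv_cancel_left]
    unfold WW
    rw [inv_inv]
    group

theorem gen (hgen : Subgroup.closure (Set.range P.φ ∪ {P.s}) = ⊤) :
    P.rd.B ⊔ Subgroup.closure (Set.range P.rd.n) = ⊤ := by
  set K := P.rd.B ⊔ Subgroup.closure (Set.range P.rd.n) with hK
  have hn : ∀ i, P.rd.n i ∈ K := fun i =>
    (le_sup_right : _ ≤ K) (Subgroup.subset_closure ⟨i, rfl⟩)
  have hpos : ∀ r : Root m, 0 < r.ht → P.rd.X r ≤ K := by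
    intro r hr
    refine le_trans ?_ (le_sup_left : _ ≤ K)
    refine le_trans ?_ (le_sup_left : P.rd.U ≤ P.rd.B)
    exact le_iSup₂_of_le (f := fun r (_ : P.rd.pos r) => P.rd.X r) r hr le_rfl
  have hall : ∀ (k : ℕ) (r : Root m), -(k : ℤ) ≤ r.ht → P.rd.X r ≤ K := by
    intro k
    induction k with
    | zero =>
      intro r hr
      have := r.ht_ne
      exact hpos r (by push_cast at hr; omega)
    | succ k ih =>
      intro r hr
      by_cases h0 : 0 < r.ht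
      · exact hpos r h0
      have h1 : r.ht < 0 := by
        have := r.ht_ne
        omega
      obtain ⟨i, hi⟩ := r.exists_raise h1
      have h2 := ih (r.refl i) (by push_cast at hr; omega)
      intro x hx
      have h3 : P.rd.n i * x * (P.rd.n i)⁻¹ ∈ K := by
        apply h2
        obtain ⟨a, b, hab, t, rfl, rfl⟩ := A.mem_X _ _ hx
        rw [Root.refl, im_mkR, A.X_mkR]
        exact A.conj_n i hab t
      have h4 := K.mul_mem (K.mul_mem (K.inv_mem (hn i)) h3) (hn i)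
      have e : (P.rd.n i)⁻¹ * (P.rd.n i * x * (P.rd.n i)⁻¹) * P.rd.n i = x := by group
      rwa [e] at h4
  have hY : ∀ a b : Sg m, idx a ≠ idx b → ∀ t, P.Y a b t ∈ K := by
    intro a b hab t
    have h1 := hall (-(mkR a b hab).ht).toNat (mkR a b hab) (by
      have := Int.self_le_toNat (-(mkR a b hab).ht)
      omega)
    apply h1
    rw [A.X_mkR]
    exact ⟨t, rfl⟩
  rw [eq_top_iff, ← hgen, Subgroup.closure_le]
  rintro x (⟨g, rfl⟩ | hx)
  · have h1 : g ∈ Subgroup.closure (Cfsg.Agent.LieClassical.SLGen.transvections (Fin (m + 2)) F) := by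
      rw [Cfsg.Agent.LieClassical.SLGen.closure_transvections]; trivial
    have h2 : Subgroup.closure (Cfsg.Agent.LieClassical.SLGen.transvections (Fin (m + 2)) F) ≤ K.comap P.φ := by
      rw [Subgroup.closure_le]
      rintro _ ⟨i, j, h, c, rfl⟩
      have := hY (.inr j) (.inl i) (by simpa using h.symm) c
      rw [Y_rl, X_of h] at this
      exact this
    exact h2 h1
  · rw [Set.mem_singleton_iff] at hx
    subst hx
    have h1 : P.σ P.o P.l = P.s := Sys1.ss_ol A.s1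
    rw [SetLike.mem_coe, ← h1, A.s1.σ_eq A.s1.hol]
    have hW : ∀ a b : Sg m, idx a ≠ idx b → P.WW a b 1 ∈ K := fun a b hab =>
      K.mul_mem (K.mul_mem (hY a b hab _) (hY _ _ (by simpa using hab) _)) (hY a b hab _)
    refine K.mul_mem (hW _ _ ?_) (K.inv_mem (hW _ _ ?_))
    · exact A.s1.hol.symm
    · exact A.s1.hol.symm

end S2

end Pre

end Cfsg.Agent.H110.D
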