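import Cfsg.Agent.H110.D.Model

/-!
# The matrix model of type `D` satisfies the relations (helper110, for S2295)
-/

set_option autoImplicit false

namespace Cfsg.Agent.H110.D

open Equiv Matrix

variable {I F : Type*} [Fintype I] [DecidableEq I] [Field F]

theorem pmat_single (f : Perm (I ⊕ I)) (x y : I ⊕ I) (t : F) : pmat F f * single x y t = single (f x) y t := by
  ext a b
  rw [pmat_mul, single_apply, single_apply]
  congr 1
  exact propext ⟨fun h => ⟨by rw [h.1]; simp, h.2⟩, fun h => ⟨by rw [← h.1]; simp, h.2⟩⟩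

theorem single_pmat (f : Perm (I ⊕ I)) (x y : I ⊕ I) (t : F) : single x (f y) t * pmat F f = single x y t := by
  ext a b
  rw [mul_pmat, single_apply, single_apply]
  simp

theorem pmat_ymat {f : Perm (I ⊕ I)} (hf : ∀ a, f (ng a) = ng (f a)) (a b : I ⊕ I) (t : F) :
    pmat F f * ymat a b t = ymat (f a) (f b) t * pmat F f := by
  unfold ymat
  rw [mul_add, mul_sub, add_mul, sub_mul, mul_one, one_mul, pmat_single, pmat_single, ← hf, ← hf, single_pmat,
    single_pmat]

theorem ng_flp (p q : I) (a : I ⊕ I) : (flp p * flp q) (ng a) = ng ((flp p * flp q) a) := by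
  rw [Perm.mul_apply, Perm.mul_apply]
  simp only [flp_apply]
  rw [ng_fl, ng_fl]

/-- conjugation of root elements by sign changes -/
theorem sm_conj_y {x y : GL (I ⊕ I) F} {a b : I ⊕ I} {t : F} (p q : I) (hx : (x : Matrix (I ⊕ I) (I ⊕ I) F) = ymat a b t)
    (hy : (y : Matrix (I ⊕ I) (I ⊕ I) F) = ymat (fl p (fl q a)) (fl p (fl q b)) t) :
    MulAut.conj (sm F p q) x = y := by
  rw [MulAut.conj_apply, mul_inv_eq_iff_eq_mul]
  apply Units.ext
  rw [Units.val_mul, Units.val_mul, hx, hy]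
  exact pmat_ymat (ng_flp p q) a b t

theorem sm_conj_y' {x : GL (I ⊕ I) F} {a b : I ⊕ I} {t : F} (p q : I) (hx : (x : Matrix (I ⊕ I) (I ⊕ I) F) = ymat a b t) :
    ((MulAut.conj (sm F p q) x : GL (I ⊕ I) F) : Matrix (I ⊕ I) (I ⊕ I) F) =
      ymat (fl p (fl q a)) (fl p (fl q b)) t := by
  have h := pmat_ymat (F := F) (ng_flp p q) a b t
  rw [MulAut.conj_apply, Units.val_mul, Units.val_mul, hx]
  change pmat F _ * ymat a b t * _ = _
  rw [h, mul_assoc]
  have : pmat F (flp p * flp q) * ((sm F p q)⁻¹ : GL (I ⊕ I) F) = 1 := by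
    change ((sm F p q : GL (I ⊕ I) F) : Matrix (I ⊕ I) (I ⊕ I) F) * ((sm F p q)⁻¹ : GL (I ⊕ I) F) = 1
    rw [← Units.val_mul, mul_inv_cancel, Units.val_one]
  rw [this, mul_one]
  rfl

theorem inC_inv {o l : I} {g : Matrix.SpecialLinearGroup I F} (hg : InC o l g) : InC o l g⁻¹ := by
  -- rows and columns of the inverse
  have h1 : ∀ p, p = o ∨ p = l → (∀ a, (g : Matrix I I F) a p = (1 : Matrix I I F) a p) ∧
      (∀ a, (g : Matrix I I F) p a = (1 : Matrix I I F) p a) := by
    rintro p (rfl | rfl)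
    · exact ⟨fun a => (hg a).1, fun a => (hg a).2.2.1⟩
    · exact ⟨fun a => (hg a).2.1, fun a => (hg a).2.2.2⟩
  have h2 : ∀ p, p = o ∨ p = l →
      (∀ a, ((g⁻¹ : Matrix.SpecialLinearGroup I F) : Matrix I I F) a p = (1 : Matrix I I F) a p) ∧
      (∀ a, ((g⁻¹ : Matrix.SpecialLinearGroup I F) : Matrix I I F) p a = (1 : Matrix I I F) p a) := by
    intro p hp
    obtain ⟨hc, hr⟩ := h1 p hp
    have e1 : ((g⁻¹ : Matrix.SpecialLinearGroup I F) : Matrix I I F) * (g : Matrix I I F) = 1 := by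
      rw [← Matrix.SpecialLinearGroup.coe_mul, inv_mul_cancel, Matrix.SpecialLinearGroup.coe_one]
    have e2 : (g : Matrix I I F) * ((g⁻¹ : Matrix.SpecialLinearGroup I F) : Matrix I I F) = 1 := by
      rw [← Matrix.SpecialLinearGroup.coe_mul, mul_inv_cancel, Matrix.SpecialLinearGroup.coe_one]
    constructor
    · intro a
      have := congrFun (congrFun e1 a) p
      rw [mul_apply] at this
      rw [← this, Finset.sum_congr rfl fun k _ => by rw [hc k]]
      simp [one_apply]
    · intro a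
      have := congrFun (congrFun e2 p) a
      rw [mul_apply] at this
      rw [← this, Finset.sum_congr rfl fun k _ => by rw [hr k]]
      simp [one_apply]
  intro a
  exact ⟨(h2 o (Or.inl rfl)).1 a, (h2 l (Or.inr rfl)).1 a, (h2 o (Or.inl rfl)).2 a, (h2 l (Or.inr rfl)).2 a⟩

theorem dbl_inC {o l : I} {g : Matrix.SpecialLinearGroup I F} (hg : InC o l g) {a b : I ⊕ I}
    (h : (idx a = o ∨ idx a = l) ∨ (idx b = o ∨ idx b = l)) : dbl g a b = (1 : Matrix (I ⊕ I) (I ⊕ I) F) a b := by
  have hg' := inC_inv hg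
  have key : ∀ {k : Matrix.SpecialLinearGroup I F}, InC o l k → ∀ a b : I,
      ((a = o ∨ a = l) ∨ (b = o ∨ b = l)) → (k : Matrix I I F) a b = (1 : Matrix I I F) a b := by
    rintro k hk a b ((rfl | rfl) | (rfl | rfl))
    · exact (hk b).2.2.1
    · exact (hk b).2.2.2
    · exact (hk a).1
    · exact (hk a).2.1
  unfold dbl
  rcases a with a | a <;> rcases b with b | b <;> simp only [idx_inl, idx_inr] at h
  · rw [fromBlocks_apply₁₁, key hg a b h]
    simp [one_apply]
  · simp
  · simp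
  · rw [fromBlocks_apply₂₂, transpose_apply, key hg' b a (Or.symm h)]
    simp [one_apply, eq_comm]

theorem sm_comm {o l : I} {g : Matrix.SpecialLinearGroup I F} (hg : InC o l g) :
    Commute (sm F o l) (phm I F g) := by
  apply Units.ext
  ext a b
  rw [Units.val_mul, Units.val_mul, coe_phm]
  change (pmat F (flp o * flp l) * dbl g) a b = (dbl g * pmat F (flp o * flp l)) a b
  rw [pmat_mul, mul_pmat, _root_.mul_inv_rev, flp_inv, flp_inv, ← flp_comm]
  simp only [Perm.mul_apply, flp_apply]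
  have e0 : ∀ x : I ⊕ I, idx (fl o (fl l x)) = idx x := by intro x; simp
  have e1 : ∀ x : I ⊕ I, ¬ (idx x = o ∨ idx x = l) → fl o (fl l x) = x := by
    intro x hx
    push Not at hx
    rw [fl_of_ne hx.2, fl_of_ne hx.1]
  by_cases h : (idx a = o ∨ idx a = l) ∨ (idx b = o ∨ idx b = l)
  · rw [dbl_inC hg (by rwa [e0]), dbl_inC hg (by rwa [e0]), one_apply, one_apply]
    congr 1
    apply propext
    constructor
    · intro h1
      rw [← h1]
      rw [fl_comm o l, fl_fl, fl_comm, fl_fl]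
    · rintro rfl
      rw [fl_comm o l, fl_fl, fl_comm, fl_fl]
  · rw [not_or] at h
    rw [e1 a h.1, e1 b h.2]

/-- the model -/
def pmod (F : Type*) [Field F] (o l c : I) : Pre I F (GL (I ⊕ I) F) where
  φ := phm I F
  s := sm F o l
  o := o
  l := l
  c := c

theorem coe_phm_X {i j : I} (hij : i ≠ j) (t : F) :
    ((phm I F (X i j t) : GL (I ⊕ I) F) : Matrix (I ⊕ I) (I ⊕ I) F) = ymat (.inr j) (.inl i) t := dbl_X hij t

theorem pmod_s1 {o l c : I} (hol : o ≠ l) (hoc : o ≠ c) (hlc : l ≠ c) (hI : 4 ≤ Fintype.card I) :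
    (pmod F o l c).S1 where
  hol := hol
  hoc := hoc
  hlc := hlc
  hI := hI
  sq := by
    change sm F o l * sm F o l = 1
    conv_lhs => rw [sm_symm o l]
    rw [sm_symm l o]
    conv_lhs => arg 2; rw [sm_symm o l]
    rw [sm_mul, sm_self]
  sC g hg := sm_comm hg
  sB t := by
    refine sm_conj_y (a := .inr l) (b := .inl o) (t := t) o l (coe_phm_X hol t) ?_
    change ((phm I F (X l o (-t)) : GL (I ⊕ I) F) : Matrix (I ⊕ I) (I ⊕ I) F) = _
    rw [coe_phm_X hol.symm]
    change ymat _ _ _ = _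
    rw [fl_self (p := l) (a := (.inr l : I ⊕ I)) rfl, fl_of_ne (p := l) (a := (.inl o : I ⊕ I)) hol,
      fl_self (p := o) (a := (.inl o : I ⊕ I)) rfl, fl_of_ne (p := o) (a := ng (.inr l : I ⊕ I)) hol.symm]
    unfold ymat
    simp only [ng_inl, ng_inr]
    congr 1
    rw [← Matrix.single_neg, ← Matrix.single_neg]
    abel
  s3 := by
    change sm F o l * MulAut.conj (phm I F (zz F o l c)) (sm F o l) *
      MulAut.conj (phm I F (zz F o l c * zz F o l c)) (sm F o l) = 1
    have hz := mon_zz (F := F) hol hoc hlc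
    rw [sm_conj hz (fun _ => Or.inl rfl), sm_conj (hz.mul hz) (fun _ => Or.inl (one_mul _)),
      Perm.mul_apply, Perm.mul_apply, tau_o hol hoc, tau_l hoc hlc, sm_mul, tau_c, sm_mul, sm_self]

end Cfsg.Agent.H110.D
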