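import Cfsg.Agent.H110.D.Model2

/-!
# Root elements of the matrix model of type `D` (helper110, for S2295)
-/

set_option autoImplicit false

namespace Cfsg.Agent.H110.D

open Equiv Matrix

variable {I F : Type*} [Fintype I] [DecidableEq I] [Field F]

theorem ssg {K : Type*} [Fintype K] [DecidableEq K] {i j k l : K} (h : j ≠ k) (a b : F) :
    single i j a * single k l b = (0 : Matrix K K F) :=
  single_mul_single_of_ne (h := h) ..

/-- orthogonal root elements with disjoint indices commute -/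
theorem ymat_comm3 {a b c' d : I ⊕ I} (h1 : idx a ≠ idx c') (h2 : idx a ≠ idx d) (h3 : idx b ≠ idx c')
    (h4 : idx b ≠ idx d) (t u : F) : ymat a b t * ymat c' d u = ymat c' d u * ymat a b t := by
  have n : ∀ {x y : I ⊕ I}, idx x ≠ idx y → ng x ≠ y := by
    rintro x y h rfl
    exact h (by rw [idx_ng])
  unfold ymat
  simp only [mul_add, add_mul, mul_sub, sub_mul, one_mul, mul_one, ssg (n h1), ssg (n h2), ssg (n h3), ssg (n h4),
    ssg (n h1.symm), ssg (n h2.symm), ssg (n h3.symm), ssg (n h4.symm)]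
  abel

theorem ymat_comm4 {a b : I ⊕ I} (h : idx a ≠ idx b) (t u : F) :
    ymat a b t * ymat a (ng b) u = ymat a (ng b) u * ymat a b t := by
  have n : ∀ {x y : I ⊕ I}, idx x ≠ idx y → x ≠ y := by
    rintro x y h rfl
    exact h rfl
  unfold ymat
  simp only [mul_add, add_mul, mul_sub, sub_mul, one_mul, mul_one, ng_ng]
  have e1 : single b (ng a) t * single (ng b) (ng a) u = (0 : Matrix (I ⊕ I) (I ⊕ I) F) :=
    ssg (n (by simpa using h)) _ _
  have e2 : single b (ng a) t * single a b u = (0 : Matrix (I ⊕ I) (I ⊕ I) F) := ssg (ng_ne a) _ _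
  have e3 : single a (ng b) t * single (ng b) (ng a) u = (single a (ng a) (t * u) : Matrix (I ⊕ I) (I ⊕ I) F) :=
    single_mul_single_same ..
  have e4 : single a (ng b) t * single a b u = (0 : Matrix (I ⊕ I) (I ⊕ I) F) :=
    ssg (n (by simpa using h.symm)) _ _
  have e5 : single (ng b) (ng a) u * single b (ng a) t = (0 : Matrix (I ⊕ I) (I ⊕ I) F) :=
    ssg (n (by simpa using h)) _ _
  have e6 : single a b u * single b (ng a) t = (single a (ng a) (u * t) : Matrix (I ⊕ I) (I ⊕ I) F) :=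
    single_mul_single_same ..
  have e7 : single (ng b) (ng a) u * single a (ng b) t = (0 : Matrix (I ⊕ I) (I ⊕ I) F) := ssg (ng_ne a) _ _
  have e8 : single a b u * single a (ng b) t = (0 : Matrix (I ⊕ I) (I ⊕ I) F) := ssg (n h.symm) _ _
  rw [e1, e2, e3, e4, e5, e6, e7, e8, mul_comm u t]
  abel

section

variable {o l c : I} (A : (pmod F o l c).S1)
include A

theorem pmod_σ (p q : I) : (pmod F o l c).σ p q = sm F p q := by
  by_cases h : p = q
  · subst h
    rw [Pre.S1.σ_self, sm_self]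
  · obtain ⟨m, π, e, hm, he, h1, h2, h3⟩ := Sys1.ss_spec A h
    change ss _ _ _ _ p q = _
    rw [h3]
    change MulAut.conj (phm I F m) (sm F o l) = _
    rw [sm_conj hm he]
    change π o = p at h1
    change π l = q at h2
    rw [h1, h2]

theorem pmod_Y {a b : I ⊕ I} (hab : idx a ≠ idx b) (t : F) :
    (((pmod F o l c).Y a b t : GL (I ⊕ I) F) : Matrix (I ⊕ I) (I ⊕ I) F) = ymat a b t := by
  obtain ⟨d, d1, d2, -⟩ := exists_out A.hI (idx a) (idx b) (idx b)
  rcases a with j | j <;> rcases b with i | i <;> simp only [idx_inl, idx_inr] at hab d1 d2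
  · rw [A.Y_ll d2 d1, pmod_σ A]
    change ((MulAut.conj (sm F d j) (phm I F (X i j t)) : GL (I ⊕ I) F) : Matrix (I ⊕ I) (I ⊕ I) F) = _
    rw [sm_conj_y' d j (coe_phm_X hab.symm t), fl_self (p := j) (a := (.inr j : I ⊕ I)) rfl,
      fl_of_ne (p := j) (a := (.inl i : I ⊕ I)) hab.symm, fl_of_ne (p := d) (a := (.inl i : I ⊕ I)) d2.symm,
      fl_of_ne (p := d) (a := ng (.inr j : I ⊕ I)) d1.symm]
    rfl
  · rw [Pre.Y_lr]
    change ((phm I F (X j i (-t)) : GL (I ⊕ I) F) : Matrix (I ⊕ I) (I ⊕ I) F) = _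
    rw [coe_phm_X hab]
    unfold ymat
    simp only [ng_inl, ng_inr]
    congr 1
    rw [← Matrix.single_neg, ← Matrix.single_neg]
    abel
  · rw [Pre.Y_rl]
    exact coe_phm_X hab.symm t
  · rw [A.Y_rr d2 d1, pmod_σ A]
    change ((MulAut.conj (sm F d i) (phm I F (X i j t)) : GL (I ⊕ I) F) : Matrix (I ⊕ I) (I ⊕ I) F) = _
    rw [sm_conj_y' d i (coe_phm_X hab.symm t), fl_of_ne (p := i) (a := (.inr j : I ⊕ I)) hab,
      fl_of_ne (p := d) (a := (.inr j : I ⊕ I)) d1.symm, fl_self (p := i) (a := (.inl i : I ⊕ I)) rfl,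
      fl_of_ne (p := d) (a := ng (.inl i : I ⊕ I)) d2.symm]
    rfl

end

theorem pmod_s2 {o l c : I} (hol : o ≠ l) (hoc : o ≠ c) (hlc : l ≠ c) (hI : 4 ≤ Fintype.card I)
    (hsq : (2 : F) = 0 → ∀ x : F, ∃ y, y * y = x) : (pmod F o l c).S2 where
  s1 := pmod_s1 hol hoc hlc hI
  sqr := hsq
  II := by
    intro _
    have A := pmod_s1 (F := F) hol hoc hlc hI
    apply Units.ext
    rw [Units.val_mul, Units.val_mul]
    have e1 := pmod_Y A (a := .inl o) (b := .inl l) hol 1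
    have e2 := pmod_Y A (a := .inl o) (b := .inr l) hol 1
    change (((pmod F o l c).Y (.inl o) (.inl l) 1 : GL (I ⊕ I) F) : Matrix (I ⊕ I) (I ⊕ I) F) *
      (((pmod F o l c).Y (.inl o) (.inr l) 1 : GL (I ⊕ I) F) : Matrix (I ⊕ I) (I ⊕ I) F) =
      (((pmod F o l c).Y (.inl o) (.inr l) 1 : GL (I ⊕ I) F) : Matrix (I ⊕ I) (I ⊕ I) F) *
      (((pmod F o l c).Y (.inl o) (.inl l) 1 : GL (I ⊕ I) F) : Matrix (I ⊕ I) (I ⊕ I) F)
    rw [e1, e2]
    exact ymat_comm4 (a := .inl o) (b := .inl l) hol 1 1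
  III := by
    intro _ _
    have A := pmod_s1 (F := F) hol hoc hlc hI
    obtain ⟨d, d1, d2, d3⟩ := exists_out hI o l c
    refine ⟨d, d1, d2, d3, ?_⟩
    apply Units.ext
    rw [Units.val_mul, Units.val_mul]
    have e1 := pmod_Y A (a := .inl o) (b := .inr l) hol 1
    have e2 := pmod_Y A (a := .inl c) (b := .inl d) d3.symm 1
    change (((pmod F o l c).Y (.inl o) (.inr l) 1 : GL (I ⊕ I) F) : Matrix (I ⊕ I) (I ⊕ I) F) *
      (((pmod F o l c).Y (.inl c) (.inl d) 1 : GL (I ⊕ I) F) : Matrix (I ⊕ I) (I ⊕ I) F) =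
      (((pmod F o l c).Y (.inl c) (.inl d) 1 : GL (I ⊕ I) F) : Matrix (I ⊕ I) (I ⊕ I) F) *
      (((pmod F o l c).Y (.inl o) (.inr l) 1 : GL (I ⊕ I) F) : Matrix (I ⊕ I) (I ⊕ I) F)
    rw [e1, e2]
    exact ymat_comm3 (a := .inl o) (b := .inr l) (c' := .inl c) (d := .inl d) hoc d1.symm hlc d2.symm 1 1

end Cfsg.Agent.H110.D
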