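import Cfsg.Agent.H135.SLCyc

/-!
# Transvections and monomial matrices in `SL` (helper110, for S2295: type D)
-/

set_option autoImplicit false

namespace Cfsg.Agent.H110.D

open Matrix Equiv
open Matrix (SpecialLinearGroup)

variable {I F : Type*} [Fintype I] [DecidableEq I] [Field F]

/-- the root element `1 + t E_ij` (and `1` if `i = j`) -/
def X (i j : I) (t : F) : SpecialLinearGroup I F :=
  if h : i ≠ j then SpecialLinearGroup.transvection h t else 1

theorem X_of {i j : I} (h : i ≠ j) (t : F) : X i j t = SpecialLinearGroup.transvection h t := dif_pos h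

theorem coe_X {i j : I} (h : i ≠ j) (t : F) : (X i j t : Matrix I I F) = 1 + single i j t := by
  rw [X_of h]; rfl

theorem X_add {i j : I} (s t : F) : X i j (s + t) = X i j s * X i j t := by
  by_cases h : i ≠ j
  · rw [X_of h, X_of h, X_of h]
    apply Subtype.ext
    exact (Matrix.transvection_mul_transvection_same _ _ h _ _).symm
  · unfold X; rw [dif_neg h, dif_neg h, dif_neg h, one_mul]

@[simp] theorem X_zero {i j : I} : X i j (0 : F) = 1 := by
  by_cases h : i ≠ j
  · rw [X_of h]
    apply Subtype.ext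
    exact Matrix.transvection_zero _ _
  · unfold X; rw [dif_neg h]

theorem X_inv {i j : I} (t : F) : (X i j t)⁻¹ = X i j (-t) := by
  rw [inv_eq_iff_mul_eq_one, ← X_add, add_neg_cancel, X_zero]

theorem s0 {i j k l : I} (h : j ≠ k) (a b : F) : single i j a * single k l b = (0 : Matrix I I F) :=
  single_mul_single_of_ne (h := h) ..

theorem X_comm {i j k l : I} (hij : i ≠ j) (hkl : k ≠ l) (hjk : j ≠ k) (hil : i ≠ l) (s t : F) :
    Commute (X i j s) (X k l t) := by
  apply Subtype.ext
  rw [Matrix.SpecialLinearGroup.coe_mul, Matrix.SpecialLinearGroup.coe_mul, coe_X hij, coe_X hkl]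
  simp only [mul_add, add_mul, one_mul, mul_one, s0 hjk, s0 hil.symm]
  abel

theorem X_braid {i j k : I} (hij : i ≠ j) (hjk : j ≠ k) (hik : i ≠ k) (s t : F) :
    X i j s * X j k t = X i k (s * t) * X j k t * X i j s := by
  apply Subtype.ext
  rw [Matrix.SpecialLinearGroup.coe_mul, Matrix.SpecialLinearGroup.coe_mul, Matrix.SpecialLinearGroup.coe_mul,
    coe_X hij, coe_X hjk, coe_X hik]
  simp only [mul_add, add_mul, one_mul, mul_one, single_mul_single_same, s0 hij.symm, s0 hjk.symm, s0 hik.symm,
    zero_mul, add_zero, zero_add]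
  abel

/-- `M` is monomial: `M e_b = c b • e_{π b}`. -/
def Mon (m : SpecialLinearGroup I F) (π : Perm I) (c : I → F) : Prop :=
  (∀ a b, (m : Matrix I I F) a b = if a = π b then c b else 0) ∧ ∀ a, c a ≠ 0

namespace Mon

variable {m m' : SpecialLinearGroup I F} {π π' : Perm I} {c c' : I → F}

theorem one : Mon (1 : SpecialLinearGroup I F) 1 fun _ => 1 :=
  ⟨fun a b => by rw [Matrix.SpecialLinearGroup.coe_one, one_apply]; rfl, fun _ => one_ne_zero⟩

theorem mul (h : Mon m π c) (h' : Mon m' π' c') : Mon (m * m') (π * π') fun b => c (π' b) * c' b := by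
  refine ⟨fun a b => ?_, fun a => mul_ne_zero (h.2 _) (h'.2 _)⟩
  rw [Matrix.SpecialLinearGroup.coe_mul, mul_apply, Finset.sum_eq_single (π' b)]
  · rw [h.1, h'.1, if_pos rfl, Perm.mul_apply]
    split_ifs <;> simp
  · intro k _ hk
    rw [h'.1, if_neg hk, mul_zero]
  · intro h; exact absurd (Finset.mem_univ _) h

theorem ext_eq (h : Mon m π c) (h' : Mon m' π c) : m = m' := by
  apply Subtype.ext
  ext a b
  rw [h.1, h'.1]

theorem inv (h : Mon m π c) : Mon m⁻¹ π⁻¹ fun b => (c (π⁻¹ b))⁻¹ := by
  refine ⟨?_, fun a => inv_ne_zero (h.2 _)⟩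
  have key : (m : Matrix I I F) * (Matrix.of fun a b => if a = π⁻¹ b then (c (π⁻¹ b))⁻¹ else 0) = 1 := by
    ext a b
    rw [mul_apply, Finset.sum_eq_single (π⁻¹ b)]
    · rw [h.1, of_apply, if_pos rfl, one_apply]
      by_cases hab : a = b
      · subst hab
        simp [h.2]
      · simp [hab]
    · intro k _ hk
      rw [of_apply, if_neg hk, mul_zero]
    · intro h; exact absurd (Finset.mem_univ _) h
  have e : ((m⁻¹ : SpecialLinearGroup I F) : Matrix I I F) =
      Matrix.of fun a b => if a = π⁻¹ b then (c (π⁻¹ b))⁻¹ else 0 := by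
    have h1 : ((m⁻¹ : SpecialLinearGroup I F) : Matrix I I F) * (m : Matrix I I F) = 1 := by
      rw [← Matrix.SpecialLinearGroup.coe_mul, inv_mul_cancel, Matrix.SpecialLinearGroup.coe_one]
    calc ((m⁻¹ : SpecialLinearGroup I F) : Matrix I I F)
        = ((m⁻¹ : SpecialLinearGroup I F) : Matrix I I F) * ((m : Matrix I I F) *
          (Matrix.of fun a b => if a = π⁻¹ b then (c (π⁻¹ b))⁻¹ else 0)) := by rw [key, mul_one]
      _ = _ := by rw [← mul_assoc, h1, one_mul]
  intro a b
  rw [e, of_apply]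

theorem conj_X (h : Mon m π c) {i j : I} (hij : i ≠ j) (t : F) :
    m * X i j t * m⁻¹ = X (π i) (π j) (c i * t * (c j)⁻¹) := by
  rw [X_of hij, X_of (π.injective.ne hij)]
  exact Cfsg.Agent.H135.SLCyc.conj_of_mono h.1 h.2 hij t

/-- products of monomials with prescribed data -/
theorem congr (h : Mon m π c) (hπ : π = π') (hc : ∀ a, c a = c' a) : Mon m π' c' := by
  subst hπ
  have : c = c' := funext hc
  subst this
  exact h

end Mon

/-- the Weyl element `w_ij(u)` -/
def Wu (i j : I) (u : F) : SpecialLinearGroup I F := X i j u * X j i (-u⁻¹) * X i j u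

theorem mon_Wu {i j : I} (hij : i ≠ j) {u : F} (hu : u ≠ 0) :
    Mon (Wu i j u) (swap i j) fun k => if k = i then -u⁻¹ else if k = j then u else 1 := by
  refine ⟨fun a b => ?_, fun a => ?_⟩
  swap
  · dsimp only
    split_ifs
    · exact neg_ne_zero.2 (inv_ne_zero hu)
    · exact hu
    · exact one_ne_zero
  have e : (Wu i j u : Matrix I I F) = 1 + single i j u + single j i (-u⁻¹) - single i i 1 - single j j 1 := by
    unfold Wu
    rw [Matrix.SpecialLinearGroup.coe_mul, Matrix.SpecialLinearGroup.coe_mul, coe_X hij, coe_X hij.symm]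
    simp only [mul_add, add_mul, one_mul, mul_one, single_mul_single_same, s0 hij.symm]
    have h1 : u * -u⁻¹ = -1 := by field_simp
    have h2 : -u⁻¹ * u = -1 := by field_simp
    simp only [h1, h2, neg_one_mul, zero_mul, add_zero]
    have h3 : ∀ p q : I, single p q (-1 : F) = - single p q 1 := fun p q => by
      rw [← single_neg]
    have h4 : single i j (-u) = - single i j u := by rw [← single_neg]
    rw [h3, h3, h4]
    abel
  rw [e, Matrix.sub_apply, Matrix.sub_apply, Matrix.add_apply, Matrix.add_apply, one_apply, single_apply, single_apply, single_apply,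
    single_apply]
  dsimp only
  by_cases hbi : b = i
  · subst hbi
    rw [swap_apply_left, if_pos (rfl : b = b)]
    by_cases ha : a = b
    · subst ha
      simp [hij, hij.symm]
    · by_cases ha' : a = j
      · subst ha'
        simp [hij, hij.symm]
      · simp [ha, ha', Ne.symm ha, Ne.symm ha', hij.symm]
  · by_cases hbj : b = j
    · subst hbj
      rw [swap_apply_right, if_neg hij.symm, if_pos (rfl : b = b)]
      by_cases ha : a = b
      · subst ha
        simp [hij, hij.symm]
      · by_cases ha' : a = i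
        · subst ha'
          simp [hij, hij.symm]
        · simp [ha, ha', Ne.symm ha, Ne.symm ha', hij]
    · rw [swap_apply_of_ne_of_ne hbi hbj, if_neg hbi, if_neg hbj]
      simp [Ne.symm hbi, Ne.symm hbj]

/-- the torus element `h_ij(u)` -/
def Hd (i j : I) (u : F) : SpecialLinearGroup I F := Wu i j u * Wu i j (-1)

theorem mon_Hd {i j : I} (hij : i ≠ j) {u : F} (hu : u ≠ 0) :
    Mon (Hd i j u) 1 fun k => if k = i then u else if k = j then u⁻¹ else 1 := by
  refine ((mon_Wu hij hu).mul (mon_Wu hij (neg_ne_zero.2 one_ne_zero))).congr (swap_mul_self _ _) fun a => ?_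
  by_cases hai : a = i
  · subst hai
    simp [hij.symm]
  · by_cases haj : a = j
    · subst haj
      simp [hij.symm]
    · rw [swap_apply_of_ne_of_ne hai haj]
      simp [hai, haj]

theorem Wu_inv {i j : I} (u : F) : (Wu i j u)⁻¹ = Wu i j (-u) := by
  unfold Wu
  rw [_root_.mul_inv_rev, _root_.mul_inv_rev, X_inv, X_inv, inv_neg, neg_neg, ← mul_assoc]

theorem Wu_neg_mul {i j : I} (hij : i ≠ j) {u : F} (hu : u ≠ 0) : Wu i j (-u) * Wu i j 1 = Hd i j u := by
  refine ((mon_Wu hij (neg_ne_zero.2 hu)).mul (mon_Wu hij one_ne_zero)).ext_eq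
    ((mon_Hd hij hu).congr (swap_mul_self _ _).symm fun a => ?_)
  by_cases h : a = i
  · simp [h, hij.symm]
  · by_cases h' : a = j
    · simp [h', hij.symm]
    · simp [h, h', swap_apply_of_ne_of_ne h h']

theorem Wu_mul_Hd {i j : I} (hij : i ≠ j) {u : F} (hu : u ≠ 0) : Wu i j 1 * Hd i j u⁻¹ = Wu i j u := by
  refine ((mon_Wu hij one_ne_zero).mul (mon_Hd hij (inv_ne_zero hu))).ext_eq
    ((mon_Wu hij hu).congr (mul_one _).symm fun a => ?_)
  by_cases h : a = i
  · simp [h]
  · by_cases h' : a = j
    · simp [h', hij.symm]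
    · simp [h, h']

theorem Hd_mul {i j : I} (hij : i ≠ j) {u v : F} (hu : u ≠ 0) (hv : v ≠ 0) :
    Hd i j (u * v) = Hd i j u * Hd i j v := by
  refine (mon_Hd hij (mul_ne_zero hu hv)).ext_eq (((mon_Hd hij hu).mul (mon_Hd hij hv)).congr (one_mul _) fun a => ?_)
  simp only [Perm.one_apply]
  by_cases h : a = i
  · simp [h]
  · by_cases h' : a = j
    · simp [h', hij.symm, mul_comm]
    · simp [h, h']

theorem Hd_symm {i j : I} (hij : i ≠ j) {u : F} (hu : u ≠ 0) : Hd j i u = Hd i j u⁻¹ := by
  refine (mon_Hd hij.symm hu).ext_eq ((mon_Hd hij (inv_ne_zero hu)).congr rfl fun a => ?_)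
  by_cases h : a = i
  · simp [h, hij]
  · by_cases h' : a = j
    · simp [h', hij.symm]
    · simp [h, h']

theorem Hd_trans {i j k : I} (hij : i ≠ j) (hik : i ≠ k) (hjk : j ≠ k) {u : F} (hu : u ≠ 0) :
    Hd i k u = Hd i j u * Hd j k u := by
  refine (mon_Hd hik hu).ext_eq (((mon_Hd hij hu).mul (mon_Hd hjk hu)).congr (one_mul _) fun a => ?_)
  simp only [Perm.one_apply]
  by_cases h : a = i
  · simp [h, hij, hik]
  · by_cases h' : a = j
    · simp [h', hij.symm, hjk, hu]
    · by_cases h'' : a = k
      · simp [h'', hik.symm, hjk.symm]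
      · simp [h, h', h'']

end Cfsg.Agent.H110.D
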