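import Cfsg.Agent.H110.D.Main
import Cfsg.Agent.H109.SLnE
import Cfsg.Agent.LieClassical.OmegaCenter

/-!
# Type `D`: presentations of `Ω⁺` and `PΩ⁺` (helper110, for S2295)
-/

set_option autoImplicit false

namespace Cfsg.Agent.H110.D

open QuadraticMap
open Cfsg.Agent.LieClassical.OrthForms Cfsg.Agent.LieClassical.OmegaCenter
open Cfsg.Agent.H111

variable {F : Type*} [Field F] [Fintype F]

theorem hasPres_pf {n k r : ℕ} (h : HasPres (Matrix.SpecialLinearGroup (Fin n) F) k r) :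
    HasPres (Pf (Fin n) F) (k + 1) r := h.coprod (HasPres.free 1)

/-- `Ω⁺_{2n}`, `n ≥ 6` : 6 generators, 29 relators -/
theorem omega_six {n : ℕ} (hn : 6 ≤ n) : HasPres ↥(Cfsg.Omega F (Cfsg.quadFormPlus n F)) 6 29 := by
  obtain ⟨m, rfl⟩ : ∃ m, n = m + 2 := ⟨n - 2, by omega⟩
  have h1 := hasPres_pf (Cfsg.Agent.H109.SLn.sln_six (F := F) hn)
  have h2 := quo_omega (F := F) (m := m) (by omega)
  rw [if_neg (by omega)] at h2
  exact h1.quo h2

/-- `Ω⁺_{10}` : 5 generators, 25 relators -/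
theorem omega_five : HasPres ↥(Cfsg.Omega F (Cfsg.quadFormPlus 5 F)) 5 25 := by
  have h1 := hasPres_pf (Cfsg.Agent.H109.SLn.sln_five (F := F))
  have h2 := quo_omega (F := F) (m := 3) (by omega)
  rw [if_neg (by omega)] at h2
  exact h1.quo h2

/-- `Ω⁺_8` : 5 generators, 26 relators -/
theorem omega_four : HasPres ↥(Cfsg.Omega F (Cfsg.quadFormPlus 4 F)) 5 26 := by
  have h1 := hasPres_pf (Cfsg.Agent.H109.SLn.sln_four (F := F))
  have h2 := quo_omega (F := F) (m := 2) (by omega)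
  rw [if_pos rfl] at h2
  exact h1.quo h2


omit [Fintype F] in
/-- the centre of `Ω⁺` is cyclic -/
theorem cyc_center {n : ℕ} (hn : 2 ≤ n) : IsCyclic (Subgroup.center ↥(Cfsg.Omega F (Cfsg.quadFormPlus n F))) := by
  have hQ : (polarBilin (plusForm n F)).Nondegenerate := by
    have h := nondeg_plusForm n F
    refine ⟨fun x hx => h x hx, fun x hx => h x fun y => ?_⟩
    have := hx y
    rwa [polarBilin_apply_apply, polar_comm] at this
  rw [← coe_plusForm]
  have hs : ∃ u : Fin n ⊕ Fin n → F, u ≠ 0 ∧ plusForm n F u = 0 := by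
    refine ⟨bv F (.inl ⟨0, by omega⟩), ?_, Q_bv _⟩
    intro h
    have := congrFun h (.inl ⟨0, by omega⟩)
    rw [bv_apply_self] at this
    exact one_ne_zero this
  have hcard : 3 ≤ Fintype.card (Fin n ⊕ Fin n) := by
    rw [Fintype.card_sum, Fintype.card_fin]; omega
  have key := mem_center_omega_iff (plusForm n F) hQ hcard hs
  by_cases h : ∃ g : Subgroup.center ↥(Cfsg.Omega F ⇑(plusForm n F)), omegaMat g.1 = -1
  · obtain ⟨g, hg⟩ := h
    refine ⟨g, fun x => ?_⟩
    rcases (key x.1).1 x.2 with h1 | h1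
    · have : x = 1 := Subtype.ext (omega_ext h1)
      exact ⟨0, by rw [this]; exact zpow_zero _⟩
    · have : x = g := Subtype.ext (omega_ext (h1.trans hg.symm))
      exact ⟨1, by rw [this]; exact zpow_one _⟩
  · refine ⟨1, fun x => ?_⟩
    rcases (key x.1).1 x.2 with h1 | h1
    · have : x = 1 := Subtype.ext (omega_ext h1)
      exact ⟨0, by rw [this]; exact zpow_zero _⟩
    · exact absurd ⟨x, h1⟩ h

end Cfsg.Agent.H110.D
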