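import Cfsg.Agent.H110.D.Sys

/-!
# The abstract group of type `D`: root elements (helper110, for S2295)

Signed indices: `Sum.inl i = +i`, `Sum.inr i = -i`.  `Y a b t` is the root element of the root `a + b`.
-/

set_option autoImplicit false

namespace Cfsg.Agent.H110.D

open Equiv Matrix

section signed

variable {I : Type*} [DecidableEq I]

/-- underlying index -/
def idx : I ⊕ I → I := Sum.elim id id

/-- negative -/
def ng : I ⊕ I → I ⊕ I := Sum.swap

/-- change the sign of index `p` -/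
def fl (p : I) (a : I ⊕ I) : I ⊕ I := if idx a = p then ng a else a

@[simp] theorem idx_inl (i : I) : idx (Sum.inl i) = i := rfl
@[simp] theorem idx_inr (i : I) : idx (Sum.inr i) = i := rfl
@[simp] theorem ng_inl (i : I) : ng (Sum.inl i) = Sum.inr i := rfl
@[simp] theorem ng_inr (i : I) : ng (Sum.inr i) = Sum.inl i := rfl
@[simp] theorem ng_ng (a : I ⊕ I) : ng (ng a) = a := by rcases a with a | a <;> rfl
@[simp] theorem idx_ng (a : I ⊕ I) : idx (ng a) = idx a := by rcases a with a | a <;> rfl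
@[simp] theorem fl_inl_self (p : I) : fl p (Sum.inl p) = Sum.inr p := by simp [fl]
@[simp] theorem fl_inr_self (p : I) : fl p (Sum.inr p) = Sum.inl p := by simp [fl]
theorem fl_self {p : I} {a : I ⊕ I} (h : idx a = p) : fl p a = ng a := if_pos h
theorem fl_of_ne {p : I} {a : I ⊕ I} (h : idx a ≠ p) : fl p a = a := if_neg h
@[simp] theorem idx_fl (p : I) (a : I ⊕ I) : idx (fl p a) = idx a := by
  unfold fl; split_ifs <;> simp
@[simp] theorem fl_fl (p : I) (a : I ⊕ I) : fl p (fl p a) = a := by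
  by_cases h : idx a = p
  · rw [fl_self (a := a) h, fl_self (by rwa [idx_ng]), ng_ng]
  · rw [fl_of_ne h, fl_of_ne h]
theorem fl_comm (p q : I) (a : I ⊕ I) : fl p (fl q a) = fl q (fl p a) := by
  by_cases hp : idx a = p <;> by_cases hq : idx a = q
  · subst hp; subst hq; rfl
  · rw [fl_of_ne hq, fl_of_ne (a := fl p a) (by simpa using hq)]
  · rw [fl_of_ne hp, fl_of_ne (a := fl q a) (by simpa using hp)]
  · rw [fl_of_ne hp, fl_of_ne hq, fl_of_ne hp]
theorem ng_fl (p : I) (a : I ⊕ I) : ng (fl p a) = fl p (ng a) := by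
  by_cases h : idx a = p
  · rw [fl_self h, fl_self (by rwa [idx_ng])]
  · rw [fl_of_ne h, fl_of_ne (by rwa [idx_ng])]

end signed

/-- The data. -/
structure Pre (I F : Type*) [Fintype I] [DecidableEq I] [Field F] (J : Type*) [Group J] where
  φ : Matrix.SpecialLinearGroup I F →* J
  s : J
  o : I
  l : I
  c : I

variable {I F : Type*} [Fintype I] [DecidableEq I] [Field F] {J : Type*} [Group J]

open Classical in
/-- a third index -/
noncomputable def th (i j : I) : I := if h : ∃ d, d ≠ i ∧ d ≠ j then h.choose else i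

namespace Pre

variable (P : Pre I F J)

/-- first hypotheses -/
def S1 : Prop := Sys1 P.φ P.s P.o P.l P.c

/-- sign changes -/
noncomputable def σ (p q : I) : J := ss P.φ P.s P.o P.l p q

/-- root elements -/
noncomputable def Y : I ⊕ I → I ⊕ I → F → J
  | .inr j, .inl i, t => P.φ (X i j t)
  | .inr j, .inr i, t => MulAut.conj (P.σ (th i j) i) (P.φ (X i j t))
  | .inl j, .inl i, t => MulAut.conj (P.σ (th i j) j) (P.φ (X i j t))
  | .inl j, .inr i, t => P.φ (X j i (-t))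

variable {P}

theorem Y_rl (i j : I) (t : F) : P.Y (.inr j) (.inl i) t = P.φ (X i j t) := rfl
theorem Y_lr (i j : I) (t : F) : P.Y (.inl j) (.inr i) t = P.φ (X j i (-t)) := rfl

namespace S1

variable (A : P.S1)
include A

theorem th_spec (i j : I) : th i j ≠ i ∧ th i j ≠ j := by
  obtain ⟨d, h1, h2, -⟩ := exists_out A.hI i j j
  have h : ∃ d, d ≠ i ∧ d ≠ j := ⟨d, h1, h2⟩
  unfold th
  rw [dif_pos h]
  exact h.choose_spec

theorem σ_symm (p q : I) : P.σ p q = P.σ q p := Sys1.ss_symm A p q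
theorem σ_sq (p q : I) : P.σ p q * P.σ p q = 1 := Sys1.ss_sq A p q
theorem σ_inv (p q : I) : (P.σ p q)⁻¹ = P.σ p q := Sys1.ss_inv A p q
theorem σ_mul (p q r : I) : P.σ p q * P.σ q r = P.σ p r := Sys1.ss_mul A p q r
theorem σ_mul' (b p q : I) : P.σ b p * P.σ b q = P.σ p q := by rw [A.σ_symm b p, A.σ_mul]
omit A in
theorem σ_self (p : I) : P.σ p p = 1 := ss_self _ _ _ _ _
theorem σ_comm (p q r t : I) : Commute (P.σ p q) (P.σ r t) := Sys1.ss_comm A p q r t

theorem conj_σ_mul (p q r : I) (x : J) :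
    MulAut.conj (P.σ p q) (MulAut.conj (P.σ q r) x) = MulAut.conj (P.σ p r) x := by
  rw [← MulAut.mul_apply, ← map_mul, A.σ_mul]

theorem conj_σ_mul' (b p q : I) (x : J) :
    MulAut.conj (P.σ b p) (MulAut.conj (P.σ b q) x) = MulAut.conj (P.σ p q) x := by
  rw [← MulAut.mul_apply, ← map_mul, A.σ_mul']

theorem conj_σ_comm (p q r t : I) (x : J) :
    MulAut.conj (P.σ p q) (MulAut.conj (P.σ r t) x) = MulAut.conj (P.σ r t) (MulAut.conj (P.σ p q) x) := by
  rw [← MulAut.mul_apply, ← MulAut.mul_apply, ← map_mul, ← map_mul, (A.σ_comm p q r t).eq]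

theorem conj_σ_sq (p q : I) (x : J) : MulAut.conj (P.σ p q) (MulAut.conj (P.σ p q) x) = x := by
  rw [← MulAut.mul_apply, ← map_mul, A.σ_sq, map_one, MulAut.one_apply]

/-- `σ p q` centralizes `X i j` -/
theorem σ_X {p q i j : I} (h1 : p ≠ i) (h2 : p ≠ j) (h3 : q ≠ i) (h4 : q ≠ j) (t : F) :
    MulAut.conj (P.σ p q) (P.φ (X i j t)) = P.φ (X i j t) := by
  have h := Sys1.ss_X A h1 h2 h3 h4 t
  rw [MulAut.conj_apply]
  change P.σ p q * P.φ (X i j t) = P.φ (X i j t) * P.σ p q at h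
  rw [h, mul_inv_cancel_right]

theorem σ_X' {i j : I} (h : i ≠ j) (t : F) : MulAut.conj (P.σ i j) (P.φ (X i j t)) = P.φ (X j i (-t)) :=
  Sys1.ss_X' A h t

/-- the auxiliary index is arbitrary -/
theorem Y_rr {i j c : I} (hi : c ≠ i) (hj : c ≠ j) (t : F) :
    P.Y (.inr j) (.inr i) t = MulAut.conj (P.σ c i) (P.φ (X i j t)) := by
  obtain ⟨h1, h2⟩ := th_spec A i j
  change MulAut.conj (P.σ (th i j) i) (P.φ (X i j t)) = _
  rw [← A.conj_σ_mul (th i j) c i, A.conj_σ_comm, A.σ_X h1 h2 hi hj]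

theorem Y_ll {i j c : I} (hi : c ≠ i) (hj : c ≠ j) (t : F) :
    P.Y (.inl j) (.inl i) t = MulAut.conj (P.σ c j) (P.φ (X i j t)) := by
  obtain ⟨h1, h2⟩ := th_spec A i j
  change MulAut.conj (P.σ (th i j) j) (P.φ (X i j t)) = _
  rw [← A.conj_σ_mul (th i j) c j, A.conj_σ_comm, A.σ_X h1 h2 hi hj]

/-- change of one sign (and of the sign of an auxiliary index) -/
theorem fl_conj1 {a b : I ⊕ I} (hab : idx a ≠ idx b) {c : I} (ha : c ≠ idx a) (hb : c ≠ idx b) (p : I) (t : F) :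
    MulAut.conj (P.σ c p) (P.Y a b t) = P.Y (fl p a) (fl p b) t := by
  rcases a with j | j <;> rcases b with i | i <;> simp only [idx_inl, idx_inr] at hab ha hb
  · -- ll
    rw [A.Y_ll hb ha]
    by_cases hpi : p = i
    · subst hpi
      rw [fl_inl_self, fl_of_ne (p := p) (a := .inl j) hab, Y_lr, A.conj_σ_mul', A.σ_X' hab.symm]
    · by_cases hpj : p = j
      · subst hpj
        rw [fl_inl_self, fl_of_ne (p := p) (a := .inl i) hab.symm, Y_rl, A.conj_σ_sq]
      · rw [fl_of_ne (a := .inl j) (Ne.symm hpj), fl_of_ne (a := .inl i) (Ne.symm hpi), A.Y_ll hb ha, A.conj_σ_comm,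
          A.σ_X hb ha hpi hpj]
  · -- lr
    rw [Y_lr]
    by_cases hpi : p = i
    · subst hpi
      rw [fl_inr_self, fl_of_ne (p := p) (a := .inl j) hab, A.Y_ll hb ha, ← A.σ_X' hab.symm, A.conj_σ_mul]
    · by_cases hpj : p = j
      · subst hpj
        rw [fl_inl_self, fl_of_ne (p := p) (a := .inr i) hab.symm, A.Y_rr hb ha, ← A.σ_X' hab.symm, A.σ_symm i,
          A.conj_σ_mul]
      · rw [fl_of_ne (a := .inl j) (Ne.symm hpj), fl_of_ne (a := .inr i) (Ne.symm hpi), Y_lr,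
          A.σ_X ha hb hpj hpi]
  · -- rl
    rw [Y_rl]
    by_cases hpi : p = i
    · subst hpi
      rw [fl_inl_self, fl_of_ne (p := p) (a := .inr j) hab, A.Y_rr hb ha]
    · by_cases hpj : p = j
      · subst hpj
        rw [fl_inr_self, fl_of_ne (p := p) (a := .inl i) hab.symm, A.Y_ll hb ha]
      · rw [fl_of_ne (a := .inr j) (Ne.symm hpj), fl_of_ne (a := .inl i) (Ne.symm hpi), Y_rl,
          A.σ_X hb ha hpi hpj]
  · -- rr
    rw [A.Y_rr hb ha]
    by_cases hpi : p = i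
    · subst hpi
      rw [fl_inr_self, fl_of_ne (p := p) (a := .inr j) hab, Y_rl, A.conj_σ_sq]
    · by_cases hpj : p = j
      · subst hpj
        rw [fl_inr_self, fl_of_ne (p := p) (a := .inr i) hab.symm, Y_lr, A.conj_σ_mul', A.σ_symm,
          A.σ_X' hab.symm]
      · rw [fl_of_ne (a := .inr j) (Ne.symm hpj), fl_of_ne (a := .inr i) (Ne.symm hpi), A.Y_rr hb ha, A.conj_σ_comm,
          A.σ_X hb ha hpi hpj]

/-- **the action of `σ p q`** -/
theorem fl_conj {a b : I ⊕ I} (hab : idx a ≠ idx b) (p q : I) (t : F) :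
    MulAut.conj (P.σ p q) (P.Y a b t) = P.Y (fl p (fl q a)) (fl p (fl q b)) t := by
  obtain ⟨d, h1, h2, -⟩ := exists_out A.hI (idx a) (idx b) (idx b)
  rw [← A.σ_mul' d p q, map_mul, MulAut.mul_apply, A.fl_conj1 hab h1 h2,
    A.fl_conj1 (by simpa using hab) (by simpa using h1) (by simpa using h2)]

theorem Y_symm {a b : I ⊕ I} (hab : idx a ≠ idx b) (t : F) : P.Y b a t = P.Y a b (-t) := by
  obtain ⟨d, h1, h2, -⟩ := exists_out A.hI (idx a) (idx b) (idx b)
  rcases a with j | j <;> rcases b with i | i <;> simp only [idx_inl, idx_inr] at hab h1 h2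
  · rw [A.Y_ll h1 h2, A.Y_ll h2 h1, ← A.conj_σ_mul d j i]
    congr 1
    rw [A.σ_X' hab]
  · rw [Y_lr, Y_rl, neg_neg]
  · rw [Y_lr, Y_rl]
  · rw [A.Y_rr h1 h2, A.Y_rr h2 h1, ← A.conj_σ_mul d j i]
    congr 1
    rw [A.σ_symm, A.σ_X' hab.symm, neg_neg]

/-- **the action of monomial matrices** -/
theorem mon_conj {m : Matrix.SpecialLinearGroup I F} {π : Perm I} {e : I → F} (hm : Mon m π e) (he : Sgn e)
    {a b : I ⊕ I} (hab : idx a ≠ idx b) (t : F) :
    MulAut.conj (P.φ m) (P.Y a b t) =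
      P.Y (Sum.map π π a) (Sum.map π π b) (e (idx a) * e (idx b) * t) := by
  obtain ⟨d, h1, h2, -⟩ := exists_out A.hI (idx a) (idx b) (idx b)
  have hσ : ∀ p q, MulAut.conj (P.φ m) (P.σ p q) = P.σ (π p) (π q) := fun p q => Sys1.ss_conj A hm he p q
  have hX : ∀ i j u, i ≠ j → MulAut.conj (P.φ m) (P.φ (X i j u)) = P.φ (X (π i) (π j) (e i * e j * u)) := by
    intro i j u hij
    rw [MulAut.conj_apply, ← map_inv, ← map_mul, ← map_mul, hm.conj_X hij]
    have : (e j)⁻¹ = e j := by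
      rcases he j with h | h
      · rw [h, inv_one]
      · rw [h, inv_neg, inv_one]
    rw [this]
    congr 2
    ring
  rcases a with j | j <;> rcases b with i | i <;> simp only [idx_inl, idx_inr] at hab h1 h2 <;>
    simp only [Sum.map_inl, Sum.map_inr, idx_inl, idx_inr]
  · rw [A.Y_ll h2 h1, A.Y_ll (π.injective.ne h2) (π.injective.ne h1), ← hσ, ← mul_comm (e i), ← hX _ _ _ hab.symm,
      conj_conj]
  · rw [Y_lr, Y_lr, hX _ _ _ hab, mul_neg]
  · rw [Y_rl, Y_rl, hX _ _ _ hab.symm, mul_comm (e i)]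
  · rw [A.Y_rr h2 h1, A.Y_rr (π.injective.ne h2) (π.injective.ne h1), ← hσ, ← mul_comm (e i), ← hX _ _ _ hab.symm,
      conj_conj]

theorem Y_add {a b : I ⊕ I} (t u : F) : P.Y a b (t + u) = P.Y a b t * P.Y a b u := by
  rcases a with j | j <;> rcases b with i | i
  · change MulAut.conj _ (P.φ _) = MulAut.conj _ (P.φ _) * MulAut.conj _ (P.φ _)
    rw [← map_mul, ← map_mul, X_add]
  · rw [Y_lr, Y_lr, Y_lr, neg_add, X_add, map_mul]
  · rw [Y_rl, Y_rl, Y_rl, X_add, map_mul]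
  · change MulAut.conj _ (P.φ _) = MulAut.conj _ (P.φ _) * MulAut.conj _ (P.φ _)
    rw [← map_mul, ← map_mul, X_add]

theorem Y_zero {a b : I ⊕ I} : P.Y a b 0 = 1 := by
  have h := A.Y_add (a := a) (b := b) 0 0
  rw [add_zero] at h
  exact (mul_eq_left.1 h.symm)

theorem Y_inv {a b : I ⊕ I} (t : F) : (P.Y a b t)⁻¹ = P.Y a b (-t) := by
  rw [inv_eq_iff_mul_eq_one, ← A.Y_add, add_neg_cancel, A.Y_zero]

/-- A statement about roots in three indices is true if it is true in `φ(SL)`. -/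
theorem sign3 {i j k : I} (hij : i ≠ j) (hik : i ≠ k) (hjk : j ≠ k)
    (Q : I ⊕ I → I ⊕ I → I ⊕ I → Prop)
    (hQ : ∀ (a b e : I ⊕ I) (p q : I), idx a = i → idx b = j → idx e = k →
      Q a b e → Q (fl p (fl q a)) (fl p (fl q b)) (fl p (fl q e)))
    {a₀ b₀ e₀ : I ⊕ I} (h1 : idx a₀ = i) (h2 : idx b₀ = j) (h3 : idx e₀ = k) (h : Q a₀ b₀ e₀)
    {a b e : I ⊕ I} (h1' : idx a = i) (h2' : idx b = j) (h3' : idx e = k) : Q a b e := by
  obtain ⟨d, d1, d2, d3⟩ := exists_out A.hI i j k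
  -- one flip at a time
  have f1 : ∀ a b e : I ⊕ I, idx a = i → idx b = j → idx e = k → Q a b e → Q (ng a) b e := by
    intro a b e ha hb he h
    have := hQ a b e i d ha hb he h
    rwa [fl_of_ne (a := a) (by rw [ha]; exact d1.symm), fl_of_ne (a := b) (by rw [hb]; exact d2.symm),
      fl_of_ne (a := e) (by rw [he]; exact d3.symm), fl_self ha, fl_of_ne (by rw [hb]; exact hij.symm),
      fl_of_ne (by rw [he]; exact hik.symm)] at this
  have f2 : ∀ a b e : I ⊕ I, idx a = i → idx b = j → idx e = k → Q a b e → Q a (ng b) e := by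
    intro a b e ha hb he h
    have := hQ a b e j d ha hb he h
    rwa [fl_of_ne (a := a) (by rw [ha]; exact d1.symm), fl_of_ne (a := b) (by rw [hb]; exact d2.symm),
      fl_of_ne (a := e) (by rw [he]; exact d3.symm), fl_self hb, fl_of_ne (by rw [ha]; exact hij),
      fl_of_ne (by rw [he]; exact hjk.symm)] at this
  have f3 : ∀ a b e : I ⊕ I, idx a = i → idx b = j → idx e = k → Q a b e → Q a b (ng e) := by
    intro a b e ha hb he h
    have := hQ a b e k d ha hb he h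
    rwa [fl_of_ne (a := a) (by rw [ha]; exact d1.symm), fl_of_ne (a := b) (by rw [hb]; exact d2.symm),
      fl_of_ne (a := e) (by rw [he]; exact d3.symm), fl_self he, fl_of_ne (by rw [ha]; exact hik),
      fl_of_ne (by rw [hb]; exact hjk)] at this
  have g : ∀ {x y : I ⊕ I}, idx x = idx y → y = x ∨ y = ng x := by
    intro x y hxy
    rcases x with x | x <;> rcases y with y | y <;> simp only [idx_inl, idx_inr] at hxy <;> subst hxy <;> simp
  rcases g (h1.trans h1'.symm) with rfl | rfl <;> rcases g (h2.trans h2'.symm) with rfl | rfl <;>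
    rcases g (h3.trans h3'.symm) with rfl | rfl
  · exact h
  · exact f3 _ _ _ h1 h2 h3 h
  · exact f2 _ _ _ h1 h2 h3 h
  · exact f3 _ _ _ h1 (by simpa using h2) h3 (f2 _ _ _ h1 h2 h3 h)
  · exact f1 _ _ _ h1 h2 h3 h
  · exact f1 _ _ _ h1 h2 (by simpa using h3) (f3 _ _ _ h1 h2 h3 h)
  · exact f1 _ _ _ h1 (by simpa using h2) h3 (f2 _ _ _ h1 h2 h3 h)
  · exact f1 _ _ _ h1 (by simpa using h2) (by simpa using h3)
      (f3 _ _ _ h1 (by simpa using h2) h3 (f2 _ _ _ h1 h2 h3 h))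

/-- **Commutator relation.** -/
theorem comm1 {a b e : I ⊕ I} (hab : idx a ≠ idx b) (hae : idx a ≠ idx e) (hbe : idx b ≠ idx e) (t u : F) :
    P.Y a b t * P.Y (ng b) e u = P.Y a e (-(t * u)) * P.Y (ng b) e u * P.Y a b t := by
  refine A.sign3 hab hae hbe
    (fun a b e => P.Y a b t * P.Y (ng b) e u = P.Y a e (-(t * u)) * P.Y (ng b) e u * P.Y a b t) ?_
    (a₀ := .inr (idx a)) (b₀ := .inl (idx b)) (e₀ := .inl (idx e)) rfl rfl rfl ?_ rfl rfl rfl
  · intro a' b' e' p q ha hb he h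
    have h1 := congrArg (MulAut.conj (P.σ p q)) h
    simp only [map_mul] at h1
    rw [A.fl_conj (by rw [ha, hb]; exact hab), A.fl_conj (by rw [idx_ng, he, hb]; exact hbe),
      A.fl_conj (by rw [ha, he]; exact hae)] at h1
    rw [ng_fl, ng_fl]
    exact h1
  · simp only [ng_inl]
    rw [Y_rl, Y_rl, Y_rl, ← map_mul, ← map_mul, ← map_mul]
    congr 1
    have h := X_braid hbe.symm hab.symm hae.symm u t
    rw [mul_assoc _ (X (idx e) (idx b) u), h, mul_comm u t, ← X_inv]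
    group

/-- two roots with a common term commute -/
theorem comm2 {a b e : I ⊕ I} (hab : idx a ≠ idx b) (hae : idx a ≠ idx e) (hbe : idx b ≠ idx e) (t u : F) :
    P.Y a b t * P.Y a e u = P.Y a e u * P.Y a b t := by
  refine A.sign3 hab hae hbe
    (fun a b e => P.Y a b t * P.Y a e u = P.Y a e u * P.Y a b t) ?_
    (a₀ := .inr (idx a)) (b₀ := .inl (idx b)) (e₀ := .inl (idx e)) rfl rfl rfl ?_ rfl rfl rfl
  · intro a' b' e' p q ha hb he h
    have h1 := congrArg (MulAut.conj (P.σ p q)) h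
    simp only [map_mul] at h1
    rwa [A.fl_conj (by rw [ha, hb]; exact hab), A.fl_conj (by rw [ha, he]; exact hae)] at h1
  · rw [Y_rl, Y_rl, ← map_mul, ← map_mul]
    congr 1
    exact (X_comm hab.symm hae.symm hae hab.symm t u).eq

theorem comm2' {a b e : I ⊕ I} (hab : idx a ≠ idx b) (hae : idx a ≠ idx e) (hbe : idx b ≠ idx e) (t u : F) :
    P.Y b a t * P.Y e a u = P.Y e a u * P.Y b a t := by
  rw [A.Y_symm hab, A.Y_symm hae, A.comm2 hab hae hbe]

/-- every root element is conjugate to one in `φ(SL)` -/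
theorem exists_conj {a b : I ⊕ I} (hab : idx a ≠ idx b) : ∃ x : J,
    (∀ t, P.Y a b t = MulAut.conj x (P.φ (X (idx b) (idx a) t))) ∧
      ∀ t, P.Y (ng a) (ng b) t = MulAut.conj x (P.φ (X (idx a) (idx b) (-t))) := by
  obtain ⟨d, h1, h2, -⟩ := exists_out A.hI (idx a) (idx b) (idx b)
  rcases a with j | j <;> rcases b with i | i <;> simp only [idx_inl, idx_inr] at hab h1 h2 <;>
    simp only [idx_inl, idx_inr, ng_inl, ng_inr]
  · refine ⟨P.σ d j, fun t => A.Y_ll h2 h1 t, fun t => ?_⟩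
    rw [A.Y_rr h2 h1, ← A.conj_σ_mul d j i, A.σ_symm j i, A.σ_X' hab.symm]
  · refine ⟨P.σ i j, fun t => ?_, fun t => ?_⟩
    · rw [Y_lr, A.σ_X' hab.symm]
    · rw [Y_rl, A.σ_symm, A.σ_X' hab, neg_neg]
  · refine ⟨1, fun t => ?_, fun t => ?_⟩
    · rw [map_one, Y_rl]; rfl
    · rw [map_one, Y_lr]; rfl
  · refine ⟨P.σ d i, fun t => A.Y_rr h2 h1 t, fun t => ?_⟩
    rw [A.Y_ll h2 h1, ← A.conj_σ_mul d i j, A.σ_X' hab.symm]

end S1

/-- Weyl elements -/
noncomputable def WW (P : Pre I F J) (a b : I ⊕ I) (u : F) : J :=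
  P.Y a b u * P.Y (ng a) (ng b) u⁻¹ * P.Y a b u

/-- torus elements -/
noncomputable def HH (P : Pre I F J) (a b : I ⊕ I) (u : F) : J := P.WW a b u * P.WW a b (-1)

namespace S1

variable (A : P.S1)
include A

theorem exists_conj' {a b : I ⊕ I} (hab : idx a ≠ idx b) : ∃ x : J,
    (∀ t, P.Y a b t = MulAut.conj x (P.φ (X (idx b) (idx a) t))) ∧
      (∀ t, P.Y (ng a) (ng b) t = MulAut.conj x (P.φ (X (idx a) (idx b) (-t)))) ∧
      (∀ t, P.WW a b t = MulAut.conj x (P.φ (Wu (idx b) (idx a) t))) ∧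
      (∀ t, P.HH a b t = MulAut.conj x (P.φ (Hd (idx b) (idx a) t))) := by
  obtain ⟨x, h1, h2⟩ := A.exists_conj hab
  have h3 : ∀ t, P.WW a b t = MulAut.conj x (P.φ (Wu (idx b) (idx a) t)) := by
    intro t
    unfold WW Wu
    rw [h1, h2, ← map_mul, ← map_mul, ← map_mul, ← map_mul]
  refine ⟨x, h1, h2, h3, fun t => ?_⟩
  unfold HH Hd
  rw [h3, h3, ← map_mul, ← map_mul]

theorem fl_WW {a b : I ⊕ I} (hab : idx a ≠ idx b) (p q : I) (u : F) :
    MulAut.conj (P.σ p q) (P.WW a b u) = P.WW (fl p (fl q a)) (fl p (fl q b)) u := by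
  unfold WW
  rw [map_mul, map_mul, A.fl_conj hab, A.fl_conj (by simpa using hab), ng_fl, ng_fl, ng_fl, ng_fl]

theorem fl_HH {a b : I ⊕ I} (hab : idx a ≠ idx b) (p q : I) (u : F) :
    MulAut.conj (P.σ p q) (P.HH a b u) = P.HH (fl p (fl q a)) (fl p (fl q b)) u := by
  unfold HH
  rw [map_mul, A.fl_WW hab, A.fl_WW hab]

end S1

/-- `g` acts on root subgroups by scalars -/
def Scal (P : Pre I F J) (g : J) : Prop := ∀ a b : I ⊕ I, idx a ≠ idx b → ∃ κ : F, κ ≠ 0 ∧
  (∀ t, MulAut.conj g (P.Y a b t) = P.Y a b (κ * t)) ∧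
    ∀ t, MulAut.conj g (P.Y (ng a) (ng b) t) = P.Y (ng a) (ng b) (κ⁻¹ * t)

namespace Scal

theorem mul {g h : J} (hg : P.Scal g) (hh : P.Scal h) : P.Scal (g * h) := by
  intro a b hab
  obtain ⟨κ, h1, h2, h3⟩ := hg a b hab
  obtain ⟨μ, k1, k2, k3⟩ := hh a b hab
  refine ⟨κ * μ, mul_ne_zero h1 k1, fun t => ?_, fun t => ?_⟩
  · rw [map_mul, MulAut.mul_apply, k2, h2, mul_assoc]
  · rw [map_mul, MulAut.mul_apply, k3, h3, mul_inv, mul_assoc]

theorem one : P.Scal 1 := by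
  intro a b hab
  exact ⟨1, one_ne_zero, fun t => by rw [map_one, one_mul]; rfl, fun t => by rw [map_one, inv_one, one_mul]; rfl⟩

theorem inv {g : J} (hg : P.Scal g) : P.Scal g⁻¹ := by
  intro a b hab
  obtain ⟨κ, h1, h2, h3⟩ := hg a b hab
  refine ⟨κ⁻¹, inv_ne_zero h1, fun t => ?_, fun t => ?_⟩
  · apply (MulAut.conj g).injective
    rw [← MulAut.mul_apply, ← map_mul, mul_inv_cancel, map_one, MulAut.one_apply, h2, mul_inv_cancel_left₀ h1]
  · apply (MulAut.conj g).injective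
    rw [← MulAut.mul_apply, ← map_mul, mul_inv_cancel, map_one, MulAut.one_apply, h3, inv_inv,
      inv_mul_cancel_left₀ h1]

end Scal

namespace S1

variable (A : P.S1)
include A

/-- `Scal` is preserved by sign changes -/
theorem Scal_σ {g : J} (hg : P.Scal g) (p q : I) : P.Scal (MulAut.conj (P.σ p q) g) := by
  intro a b hab
  have hab' : idx (fl p (fl q a)) ≠ idx (fl p (fl q b)) := by simpa using hab
  obtain ⟨κ, h1, h2, h3⟩ := hg (fl p (fl q a)) (fl p (fl q b)) hab'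
  have e : ∀ a : I ⊕ I, fl p (fl q (fl p (fl q a))) = a := by
    intro a
    rw [fl_comm q p, fl_fl, fl_fl]
  have e1 : ∀ t, P.Y a b t = MulAut.conj (P.σ p q) (P.Y (fl p (fl q a)) (fl p (fl q b)) t) := by
    intro t
    rw [A.fl_conj hab', e, e]
  have e2 : ∀ t, P.Y (ng a) (ng b) t =
      MulAut.conj (P.σ p q) (P.Y (ng (fl p (fl q a))) (ng (fl p (fl q b))) t) := by
    intro t
    rw [A.fl_conj (by simpa using hab), ng_fl, ng_fl, ng_fl, ng_fl, e, e]
  refine ⟨κ, h1, fun t => ?_, fun t => ?_⟩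
  · rw [e1, conj_conj, h2, ← e1]
  · rw [e2, conj_conj, h3, ← e2]

theorem σ_Hd {p q i j : I} (h1 : p ≠ i) (h2 : p ≠ j) (h3 : q ≠ i) (h4 : q ≠ j) (u : F) :
    MulAut.conj (P.σ p q) (P.φ (Hd i j u)) = P.φ (Hd i j u) := by
  unfold Hd Wu
  simp only [map_mul, A.σ_X h1 h2 h3 h4, A.σ_X h2 h1 h4 h3]

theorem σ_Hd' {i j : I} (h : i ≠ j) {u : F} (hu : u ≠ 0) :
    MulAut.conj (P.σ i j) (P.φ (Hd i j u)) = P.φ (Hd i j u⁻¹) := by
  have h1 : ∀ t, MulAut.conj (P.σ i j) (P.φ (X j i t)) = P.φ (X i j (-t)) := by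
    intro t
    rw [A.σ_symm, A.σ_X' h.symm]
  have h2 : (Hd i j u⁻¹ : Matrix.SpecialLinearGroup I F) = Wu j i (-u) * Wu j i 1 := by
    refine (mon_Hd h (inv_ne_zero hu)).ext_eq
      (((mon_Wu h.symm (neg_ne_zero.2 hu)).mul (mon_Wu h.symm one_ne_zero)).congr (swap_mul_self _ _) fun a => ?_)
    by_cases hai : a = i
    · simp only [hai, swap_apply_right, if_neg h, if_true, inv_neg, neg_neg, mul_one]
    · by_cases haj : a = j
      · simp only [haj, swap_apply_left, if_neg h.symm, if_neg h, if_true, inv_one, inv_inv]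
        ring
      · simp only [if_neg hai, if_neg haj, swap_apply_of_ne_of_ne haj hai, mul_one]
  rw [h2]
  unfold Hd Wu
  simp only [map_mul, A.σ_X' h, h1, inv_neg, neg_neg, inv_one]

/-- **The torus action**, one index in common. -/
theorem tor1 {a b : I ⊕ I} (hab : idx a ≠ idx b) {d : I} (ha : d ≠ idx a) (hb : d ≠ idx b) {u : F} (hu : u ≠ 0)
    (t : F) : MulAut.conj (P.φ (Hd (idx a) d u)) (P.Y a b t) =
      P.Y a b ((a.elim (fun _ => u) fun _ => u⁻¹) * t) := by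
  obtain ⟨e, e1, e2, e3⟩ := exists_out A.hI (idx a) (idx b) d
  -- the base case
  have hbase : ∀ (v : F), v ≠ 0 → ∀ t, MulAut.conj (P.φ (Hd (idx a) d v)) (P.Y (.inr (idx a)) (.inl (idx b)) t) =
      P.Y (.inr (idx a)) (.inl (idx b)) (v⁻¹ * t) := by
    intro v hv t
    rw [Y_rl, Y_rl, MulAut.conj_apply, ← map_inv, ← map_mul, ← map_mul, (mon_Hd ha.symm hv).conj_X hab.symm]
    simp [hab.symm, hb.symm, mul_comm]
  -- flip of `b`
  have hb1 : ∀ (v : F), v ≠ 0 → ∀ t, MulAut.conj (P.φ (Hd (idx a) d v)) (P.Y (.inr (idx a)) b t) =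
      P.Y (.inr (idx a)) b (v⁻¹ * t) := by
    intro v hv t
    rcases b with i | i
    · exact hbase v hv t
    · simp only [idx_inr] at *
      have h1 := congrArg (MulAut.conj (P.σ e i)) (hbase v hv t)
      have h2 : ∀ t, MulAut.conj (P.σ e i) (P.Y (.inr (idx a)) (.inl i) t) = P.Y (.inr (idx a)) (.inr i) t := by
        intro t
        rw [A.fl_conj1 (by simpa using hab) (by simpa using e1) (by simpa using e2), fl_inl_self,
          fl_of_ne (a := .inr (idx a)) (by simpa using hab)]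
      rw [← conj_conj, h2, h2, A.σ_Hd e1 e3 hab.symm hb.symm] at h1
      exact h1
  rcases a with j | j
  · simp only [idx_inl, Sum.elim_inl] at *
    have h2 : ∀ t, MulAut.conj (P.σ d j) (P.Y (.inr j) b t) = P.Y (.inl j) b t := by
      intro t
      rw [A.fl_conj1 (by simpa using hab) (by simpa using ha) (by simpa using hb), fl_inr_self,
        fl_of_ne (a := b) hab.symm]
    have h1 := congrArg (MulAut.conj (P.σ d j)) (hb1 u⁻¹ (inv_ne_zero hu) t)
    rw [← conj_conj, h2, h2, A.σ_symm, A.σ_Hd' ha.symm (inv_ne_zero hu), inv_inv] at h1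
    exact h1
  · simp only [idx_inr, Sum.elim_inr] at *
    exact hb1 u hu t

theorem Scal_Hd1 {k d : I} (hkd : k ≠ d) {u : F} (hu : u ≠ 0) {a b : I ⊕ I} (hab : idx a ≠ idx b)
    (ha : idx a = k) (hb : d ≠ idx b) : ∃ κ : F, κ ≠ 0 ∧
  (∀ t, MulAut.conj (P.φ (Hd k d u)) (P.Y a b t) = P.Y a b (κ * t)) ∧
    ∀ t, MulAut.conj (P.φ (Hd k d u)) (P.Y (ng a) (ng b) t) = P.Y (ng a) (ng b) (κ⁻¹ * t) := by
  subst ha
  refine ⟨a.elim (fun _ => u) fun _ => u⁻¹, ?_, fun t => A.tor1 hab hkd.symm hb hu t, fun t => ?_⟩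
  · rcases a with a | a
    · exact hu
    · exact inv_ne_zero hu
  · have h := A.tor1 (a := ng a) (b := ng b) (by simpa using hab) (d := d) (by simpa using hkd.symm)
      (by simpa using hb) hu t
    rw [idx_ng] at h
    rw [h]
    rcases a with a | a <;> simp

/-- **The torus of `SL` acts by scalars.** -/
theorem Scal_Hd {i j : I} (hij : i ≠ j) {u : F} (hu : u ≠ 0) : P.Scal (P.φ (Hd i j u)) := by
  have hc : ∀ {g h : J} {a b : I ⊕ I}, (∃ κ : F, κ ≠ 0 ∧ (∀ t, MulAut.conj g (P.Y a b t) = P.Y a b (κ * t)) ∧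
      ∀ t, MulAut.conj g (P.Y (ng a) (ng b) t) = P.Y (ng a) (ng b) (κ⁻¹ * t)) →
      (∃ κ : F, κ ≠ 0 ∧ (∀ t, MulAut.conj h (P.Y a b t) = P.Y a b (κ * t)) ∧
      ∀ t, MulAut.conj h (P.Y (ng a) (ng b) t) = P.Y (ng a) (ng b) (κ⁻¹ * t)) →
      (∃ κ : F, κ ≠ 0 ∧ (∀ t, MulAut.conj (g * h) (P.Y a b t) = P.Y a b (κ * t)) ∧
      ∀ t, MulAut.conj (g * h) (P.Y (ng a) (ng b) t) = P.Y (ng a) (ng b) (κ⁻¹ * t)) := by
    rintro g h a b ⟨κ, h1, h2, h3⟩ ⟨μ, k1, k2, k3⟩
    refine ⟨κ * μ, mul_ne_zero h1 k1, fun t => ?_, fun t => ?_⟩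
    · rw [map_mul, MulAut.mul_apply, k2, h2, mul_assoc]
    · rw [map_mul, MulAut.mul_apply, k3, h3, mul_inv, mul_assoc]
  have hs : ∀ {g : J} {a b : I ⊕ I}, idx a ≠ idx b →
      (∃ κ : F, κ ≠ 0 ∧ (∀ t, MulAut.conj g (P.Y b a t) = P.Y b a (κ * t)) ∧
      ∀ t, MulAut.conj g (P.Y (ng b) (ng a) t) = P.Y (ng b) (ng a) (κ⁻¹ * t)) →
      (∃ κ : F, κ ≠ 0 ∧ (∀ t, MulAut.conj g (P.Y a b t) = P.Y a b (κ * t)) ∧
      ∀ t, MulAut.conj g (P.Y (ng a) (ng b) t) = P.Y (ng a) (ng b) (κ⁻¹ * t)) := by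
    rintro g a b hab ⟨κ, h1, h2, h3⟩
    refine ⟨κ, h1, fun t => ?_, fun t => ?_⟩
    · rw [A.Y_symm hab.symm, h2, A.Y_symm hab.symm]; congr 1; ring
    · rw [A.Y_symm (a := ng b) (b := ng a) (by simpa using hab.symm), h3,
        A.Y_symm (a := ng b) (b := ng a) (by simpa using hab.symm)]; congr 1; ring
  have key : ∀ {i j : I}, i ≠ j → ∀ {u : F}, u ≠ 0 → ∀ {a b : I ⊕ I}, idx a ≠ idx b → idx a = i →
      (∃ κ : F, κ ≠ 0 ∧ (∀ t, MulAut.conj (P.φ (Hd i j u)) (P.Y a b t) = P.Y a b (κ * t)) ∧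
      ∀ t, MulAut.conj (P.φ (Hd i j u)) (P.Y (ng a) (ng b) t) = P.Y (ng a) (ng b) (κ⁻¹ * t)) := by
    intro i j hij u hu a b hab ha
    by_cases hb : j = idx b
    · obtain ⟨d, d1, d2, -⟩ := exists_out A.hI i j j
      rw [Hd_trans d1.symm hij d2 hu, map_mul]
      refine hc (A.Scal_Hd1 d1.symm hu hab ha (by rw [← hb]; exact d2)) ?_
      rw [Hd_symm d2.symm hu]
      refine hs hab (A.Scal_Hd1 d2.symm (inv_ne_zero hu) hab.symm hb.symm (by rw [ha]; exact d1))
    · exact A.Scal_Hd1 hij hu hab ha hb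
  intro a b hab
  by_cases h1 : idx a = i
  · exact key hij hu hab h1
  by_cases h2 : idx b = i
  · exact hs hab (key hij hu hab.symm h2)
  by_cases h3 : idx a = j
  · rw [Hd_symm hij.symm hu]
    exact key hij.symm (inv_ne_zero hu) hab h3
  by_cases h4 : idx b = j
  · rw [Hd_symm hij.symm hu]
    exact hs hab (key hij.symm (inv_ne_zero hu) hab.symm h4)
  · rw [Hd_trans (Ne.symm h1) hij h3 hu, map_mul, Hd_symm h1 hu]
    exact hc (key h1 (inv_ne_zero hu) hab rfl) (key h3 hu hab rfl)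

/-- all signs at once -/
theorem flips {Q : I ⊕ I → I ⊕ I → Prop} {i j : I} (hij : i ≠ j)
    (hQ : ∀ (a b : I ⊕ I) (p q : I), idx a = i → idx b = j → Q a b → Q (fl p (fl q a)) (fl p (fl q b)))
    {a₀ b₀ : I ⊕ I} (h1 : idx a₀ = i) (h2 : idx b₀ = j) (h : Q a₀ b₀)
    {a b : I ⊕ I} (h1' : idx a = i) (h2' : idx b = j) : Q a b := by
  obtain ⟨k, k1, k2, -⟩ := exists_out A.hI i j j
  exact A.sign3 (k := k) (e₀ := .inl k) (e := .inl k) hij k1.symm k2.symm (fun a b _ => Q a b)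
    (fun a b e p q ha hb _ h => hQ a b p q ha hb h) h1 h2 rfl h h1' h2' rfl

theorem Scal_HH {a b : I ⊕ I} (hab : idx a ≠ idx b) {u : F} (hu : u ≠ 0) : P.Scal (P.HH a b u) := by
  refine A.flips (Q := fun a b => P.Scal (P.HH a b u)) hab ?_ (a₀ := .inr (idx a)) (b₀ := .inl (idx b)) rfl rfl ?_
    rfl rfl
  · intro a' b' p q ha hb h
    have := A.Scal_σ h p q
    rwa [A.fl_HH (by rw [ha, hb]; exact hab)] at this
  · obtain ⟨x, h1, h2, h3, h4⟩ := A.exists_conj' (a := .inr (idx a)) (b := .inl (idx b)) hab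
    have : P.HH (.inr (idx a)) (.inl (idx b)) u = P.φ (Hd (idx b) (idx a) u) := by
      unfold HH WW Hd Wu
      simp only [ng_inl, ng_inr, Y_rl, Y_lr, map_mul]
    rw [this]
    exact A.Scal_Hd hab.symm hu

end S1

end Pre

end Cfsg.Agent.H110.D
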