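import Cfsg.Agent.H110.D.HypD
import Cfsg.Agent.LieClassical.OrthFinite
import Cfsg.Agent.LieClassical.OrthForms

/-!
# Type `D`: the root elements generate `Ω⁺` (helper110, for S2295)
-/

set_option autoImplicit false

namespace Cfsg.Agent.H110.D

open Equiv QuadraticMap
open Cfsg.Agent.LieClassical.OrthCore Cfsg.Agent.LieClassical.OrthForms Cfsg.Agent.LieClassical.OrthFinite

variable {n : ℕ} {F : Type*} [Field F]

/-- basis vectors -/
def bv (F : Type*) [Field F] {n : ℕ} (a : Fin n ⊕ Fin n) : Fin n ⊕ Fin n → F := Pi.single a 1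

theorem polar_bv (a : Fin n ⊕ Fin n) (v : Fin n ⊕ Fin n → F) : polar (plusForm n F) (bv F a) v = v (ng a) := by
  rw [polar_plusForm]
  rcases a with a | a
  · rw [Finset.sum_eq_single a]
    · simp [bv]
    · intro b _ hb
      simp [bv, hb]
    · intro h; exact absurd (Finset.mem_univ _) h
  · rw [Finset.sum_eq_single a]
    · simp [bv]
    · intro b _ hb
      simp [bv, hb]
    · intro h; exact absurd (Finset.mem_univ _) h

theorem Q_bv (a : Fin n ⊕ Fin n) : plusForm n F (bv F a) = 0 := by
  rw [coe_plusForm, quadFormPlus_apply]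
  apply Finset.sum_eq_zero
  intro i _
  rcases a with a | a <;> simp [bv]

theorem Q_smul_bv (a : Fin n ⊕ Fin n) (t : F) : plusForm n F (t • bv F a) = 0 := by
  rw [QuadraticMap.map_smul, Q_bv, smul_zero]

theorem bv_apply_self (a : Fin n ⊕ Fin n) : bv F a a = 1 := by simp [bv]
theorem bv_apply_ne {a b : Fin n ⊕ Fin n} (h : b ≠ a) : bv F a b = 0 := by simp [bv, h]

theorem polar_bv_smul {a b : Fin n ⊕ Fin n} (h : idx a ≠ idx b) (t : F) :
    polar (plusForm n F) (bv F a) (t • bv F b) = 0 := by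
  rw [polar_bv, Pi.smul_apply, bv_apply_ne, smul_zero]
  intro e
  exact h (by rw [← e, idx_ng])

/-- root elements -/
noncomputable def ysg (a b : Fin n ⊕ Fin n) (h : idx a ≠ idx b) (t : F) :
    (Fin n ⊕ Fin n → F) ≃ₗ[F] (Fin n ⊕ Fin n → F) :=
  siegel (plusForm n F) (bv F a) (t • bv F b) (Q_bv a) (polar_bv_smul h t)

variable {K : Subgroup ((Fin n ⊕ Fin n → F) ≃ₗ[F] (Fin n ⊕ Fin n → F))}

theorem siegel_congr {Q : QuadraticForm F (Fin n ⊕ Fin n → F)} {u w u' w' : Fin n ⊕ Fin n → F} (h1 : u = u') (h2 : w = w')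
    (hu : Q u = 0) (hw : polar Q u w = 0) (hu' : Q u' = 0) (hw' : polar Q u' w' = 0) :
    siegel Q u w hu hw = siegel Q u' w' hu' hw' := by
  subst h1; subst h2; rfl

theorem siegel_smul {Q : QuadraticForm F (Fin n ⊕ Fin n → F)} {u u' w : Fin n ⊕ Fin n → F} {c : F} (h : u' = c • u)
    (hu' : Q u' = 0) (hw' : polar Q u' w = 0) (hu : Q u = 0) (hw : polar Q u (c • w) = 0) :
    siegel Q u' w hu' hw' = siegel Q u (c • w) hu hw := by
  subst h
  ext1 v
  rw [siegel_apply, siegel_apply, polar_smul_left, polar_smul_left, QuadraticMap.map_smul]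
  simp only [smul_eq_mul]
  module

theorem step1 (hK : ∀ a b h t, ysg a b h t ∈ K) (a : Fin n ⊕ Fin n) (w : Fin n ⊕ Fin n → F)
    (hw : polar (plusForm n F) (bv F a) w = 0) : siegel (plusForm n F) (bv F a) w (Q_bv a) hw ∈ K := by
  classical
  have hw0 : w (ng a) = 0 := by rwa [polar_bv] at hw
  -- single terms
  have h1 : ∀ b, ∀ h : polar (plusForm n F) (bv F a) (w b • bv F b) = 0,
      siegel (plusForm n F) (bv F a) (w b • bv F b) (Q_bv a) h ∈ K := by
    intro b h
    by_cases hab : idx a = idx b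
    · have : siegel (plusForm n F) (bv F a) (w b • bv F b) (Q_bv a) h = 1 := by
        ext1 v
        rw [siegel_apply, LinearEquiv.coe_one, id_eq]
        rcases eq_or_ng hab with rfl | hab'
        · rw [Q_smul_bv, zero_mul, zero_smul, sub_zero, polar_smul_left, smul_eq_mul, smul_smul, mul_comm,
            add_sub_cancel_right]
        · have hb : b = ng a := by rw [hab', ng_ng]
          subst hb
          rw [hw0, zero_smul, smul_zero, QuadraticMap.map_zero, zero_mul, zero_smul, polar_zero_left, zero_smul]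
          simp
      rw [this]
      exact K.one_mem
    · exact hK a b hab (w b)
  have h2 : ∀ S : Finset (Fin n ⊕ Fin n), ∀ h : polar (plusForm n F) (bv F a) (∑ b ∈ S, w b • bv F b) = 0,
      siegel (plusForm n F) (bv F a) (∑ b ∈ S, w b • bv F b) (Q_bv a) h ∈ K := by
    intro S
    induction S using Finset.induction_on with
    | empty =>
      intro h
      have : siegel (plusForm n F) (bv F a) (∑ b ∈ (∅ : Finset (Fin n ⊕ Fin n)), w b • bv F b) (Q_bv a) h = 1 := by
        ext1 v
        rw [siegel_apply, Finset.sum_empty, smul_zero, QuadraticMap.map_zero, zero_mul, zero_smul, polar_zero_left,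
          zero_smul]
        simp
      rw [this]
      exact K.one_mem
    | insert b S hb ih =>
      intro h
      have hpol : ∀ T : Finset (Fin n ⊕ Fin n), polar (plusForm n F) (bv F a) (∑ b ∈ T, w b • bv F b) = 0 := by
        intro T
        rw [polar_bv, Finset.sum_apply]
        apply Finset.sum_eq_zero
        intro c _
        rw [Pi.smul_apply]
        by_cases hc : c = ng a
        · rw [hc, hw0, zero_smul]
        · rw [bv_apply_ne (Ne.symm hc), smul_zero]
      have e : ∑ c ∈ insert b S, w c • bv F c = w b • bv F b + ∑ c ∈ S, w c • bv F c := Finset.sum_insert hb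
      have h3 : polar (plusForm n F) (bv F a) (w b • bv F b) = 0 := by
        have := hpol {b}
        rwa [Finset.sum_singleton] at this
      have h4 : polar (plusForm n F) (bv F a) (w b • bv F b + ∑ c ∈ S, w c • bv F c) = 0 := by rw [← e]; exact h
      rw [siegel_congr rfl e (Q_bv a) h (Q_bv a) h4, ← siegel_mul (Q_bv a) h3 (hpol S) h4]
      exact K.mul_mem (h1 b h3) (ih _)
  have e : ∑ b : Fin n ⊕ Fin n, w b • bv F b = w := by
    funext x
    rw [Finset.sum_apply, Finset.sum_eq_single x]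
    · rw [Pi.smul_apply, bv_apply_self, smul_eq_mul, mul_one]
    · intro b _ hb
      rw [Pi.smul_apply, bv_apply_ne (Ne.symm hb), smul_zero]
    · intro h; exact absurd (Finset.mem_univ _) h
  have h5 : polar (plusForm n F) (bv F a) (∑ b : Fin n ⊕ Fin n, w b • bv F b) = 0 := by rw [e]; exact hw
  rw [siegel_congr rfl e.symm (Q_bv a) hw (Q_bv a) h5]
  exact h2 _ h5

theorem step2 (hK : ∀ a b h t, ysg a b h t ∈ K) : E (plusForm n F) ≤ K := by
  rw [E, Subgroup.closure_le]
  rintro _ ⟨u, w, hu, hw, rfl⟩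
  by_cases hu0 : u = 0
  · have : siegel (plusForm n F) u w hu hw = 1 := by
      ext1 v
      rw [siegel_apply, hu0, polar_zero_left, smul_zero, zero_smul, smul_zero]
      simp
    rw [this]
    exact K.one_mem
  obtain ⟨x, hx⟩ := Function.ne_iff.1 hu0
  set a := ng x with ha
  set c := u x with hc
  have hc0 : c ≠ 0 := hx
  have hax : ng a = x := by rw [ha, ng_ng]
  set w0 := (-c⁻¹) • (u - c • bv F x - u a • bv F a) with hw0
  have hxa : x ≠ a := fun e => ng_ne x (by rw [← ha, ← e])
  have h1 : polar (plusForm n F) (bv F a) w0 = 0 := by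
    rw [polar_bv, hax, hw0, Pi.smul_apply, Pi.sub_apply, Pi.sub_apply, Pi.smul_apply, Pi.smul_apply, bv_apply_self,
      bv_apply_ne hxa, smul_eq_mul, smul_eq_mul, smul_eq_mul, ← hc]
    ring
  set g := siegel (plusForm n F) (bv F a) w0 (Q_bv a) h1 with hg
  have hgK : g ∈ K := step1 hK a w0 h1
  have hgO : g ∈ O (plusForm n F) := siegel_mem_O _ _
  have hpa : polar (plusForm n F) (bv F a) u = c := by rw [polar_bv, hax]
  obtain ⟨μ, hμ⟩ : ∃ μ : F, g u = c • bv F x + μ • bv F a := by
    refine ⟨u a - polar (plusForm n F) w0 u - plusForm n F w0 * c, ?_⟩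
    rw [hg, siegel_apply, hpa, hw0]
    rw [smul_smul, mul_neg, mul_inv_cancel₀ hc0]
    module
  have h2 : plusForm n F (g u) = 0 := by rw [mem_O.1 hgO]; exact hu
  have hμ0 : μ = 0 := by
    rw [hμ, Q_add, Q_smul_bv, Q_smul_bv, polar_smul_left, polar_smul_right, polar_bv, add_zero, zero_add] at h2
    have : ng x = a := rfl
    rw [this, bv_apply_self, smul_eq_mul, smul_eq_mul, mul_one] at h2
    exact (mul_eq_zero.1 h2).resolve_left hc0
  rw [hμ0, zero_smul, add_zero] at hμ
  have h3 : polar (plusForm n F) (g u) (g w) = 0 := by rw [polar_map hgO]; exact hw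
  have h4 := siegel_conj hgO hu hw h2 h3
  have h5 : polar (plusForm n F) (bv F x) (c • g w) = 0 := by
    rw [hμ, polar_smul_left] at h3
    rw [polar_smul_right]
    exact h3
  have h6 : siegel (plusForm n F) (g u) (g w) h2 h3 = siegel (plusForm n F) (bv F x) (c • g w) (Q_bv x) h5 :=
    siegel_smul hμ h2 h3 (Q_bv x) h5
  have h7 : siegel (plusForm n F) u w hu hw = g⁻¹ * siegel (plusForm n F) (g u) (g w) h2 h3 * g := by
    rw [← h4]; group
  rw [SetLike.mem_coe, h7, h6]
  exact K.mul_mem (K.mul_mem (K.inv_mem hgK) (step1 hK x _ h5)) hgK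

theorem glEquiv_ymat {a b : Fin n ⊕ Fin n} (h : idx a ≠ idx b) (t : F) {g : Matrix.GeneralLinearGroup (Fin n ⊕ Fin n) F}
    (hg : (g : Matrix (Fin n ⊕ Fin n) (Fin n ⊕ Fin n) F) = ymat a b t) :
    glEquiv (Fin n ⊕ Fin n) F g = ysg a b h t := by
  ext1 v
  rw [glEquiv_apply, hg, ysg, siegel_apply, polar_bv, polar_smul_left, polar_bv, Q_smul_bv, zero_mul, zero_smul,
    sub_zero]
  unfold ymat
  rw [Matrix.add_mulVec, Matrix.sub_mulVec, Matrix.one_mulVec, Matrix.single_mulVec, Matrix.single_mulVec]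
  funext x
  simp only [Pi.add_apply, Pi.sub_apply, Pi.smul_apply, smul_eq_mul, bv, Function.update_apply, Pi.zero_apply,
    Pi.single_apply]
  split_ifs <;> ring

end Cfsg.Agent.H110.D
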