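import Cfsg.Agent.H110.D.Mon

/-!
# The abstract group of type `D`: the elements `ss p q` (helper110, for S2295)

`φ : SL(I, F) →* J` and `s : J` (sign change in the planes `o`, `l`).
-/

set_option autoImplicit false

namespace Cfsg.Agent.H110.D

open Equiv Matrix

variable {I F : Type*} [Fintype I] [DecidableEq I] [Field F] {J : Type*} [Group J]

/-- `g` acts on the complement of `o, l` only -/
def InC (o l : I) (g : Matrix.SpecialLinearGroup I F) : Prop :=
  ∀ a, (g : Matrix I I F) a o = (1 : Matrix I I F) a o ∧ (g : Matrix I I F) a l = (1 : Matrix I I F) a l ∧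
    (g : Matrix I I F) o a = (1 : Matrix I I F) o a ∧ (g : Matrix I I F) l a = (1 : Matrix I I F) l a

/-- the 3-cycle `o → l → c → o` -/
def zz (F : Type*) [Field F] (o l c : I) : Matrix.SpecialLinearGroup I F := Wu l o 1 * Wu c l 1

/-- the 3-cycle `o → l → c → o` -/
def tau (o l c : I) : Perm I := swap l o * swap c l

omit [Fintype I] in
theorem tau_o {o l c : I} (hol : o ≠ l) (hoc : o ≠ c) : tau o l c o = l := by
  unfold tau
  rw [Perm.mul_apply, swap_apply_of_ne_of_ne hoc hol, swap_apply_right]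

omit [Fintype I] in
theorem tau_l {o l c : I} (hoc : o ≠ c) (hlc : l ≠ c) : tau o l c l = c := by
  unfold tau
  rw [Perm.mul_apply, swap_apply_right, swap_apply_of_ne_of_ne hlc.symm hoc.symm]

omit [Fintype I] in
theorem tau_c {o l c : I} : tau o l c c = o := by
  unfold tau
  rw [Perm.mul_apply, swap_apply_left, swap_apply_left]

omit [Fintype I] in
theorem tau_other {o l c a : I} (h1 : a ≠ o) (h2 : a ≠ l) (h3 : a ≠ c) : tau o l c a = a := by
  unfold tau
  rw [Perm.mul_apply, swap_apply_of_ne_of_ne h3 h2, swap_apply_of_ne_of_ne h2 h1]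

theorem mon_zz {o l c : I} (hol : o ≠ l) (hoc : o ≠ c) (hlc : l ≠ c) : Mon (zz F o l c) (tau o l c) fun _ => 1 := by
  refine ((mon_Wu hol.symm one_ne_zero).mul (mon_Wu hlc.symm one_ne_zero)).congr rfl fun a => ?_
  by_cases h1 : a = o
  · subst h1
    simp only [swap_apply_of_ne_of_ne hoc hol, if_neg hol, if_neg hoc]
    simp
  · by_cases h2 : a = l
    · subst h2
      simp [hlc, hlc.symm, hoc.symm]
    · by_cases h3 : a = c
      · subst h3
        simp
      · simp only [swap_apply_of_ne_of_ne h3 h2, if_neg h1, if_neg h2, if_neg h3, mul_one]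

theorem zz3 {o l c : I} (hol : o ≠ l) (hoc : o ≠ c) (hlc : l ≠ c) : zz F o l c * zz F o l c * zz F o l c = 1 := by
  have hm := mon_zz (F := F) hol hoc hlc
  refine ((hm.mul hm).mul hm).ext_eq (Mon.one.congr ?_ fun a => by simp)
  ext a
  simp only [Perm.mul_apply, Perm.one_apply]
  have e1 := tau_o hol hoc
  have e2 := tau_l hoc hlc
  have e3 := tau_c (o := o) (l := l) (c := c)
  by_cases h1 : a = o
  · simp only [h1, e1, e2, e3]
  · by_cases h2 : a = l
    · simp only [h2, e1, e2, e3]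
    · by_cases h3 : a = c
      · simp only [h3, e1, e2, e3]
      · simp only [tau_other h1 h2 h3]

theorem zz_W {o l c : I} (hol : o ≠ l) (hoc : o ≠ c) (hlc : l ≠ c) :
    Wu o l 1 * (zz F o l c * zz F o l c) = zz F o l c * (Wu o l 1)⁻¹ := by
  have hm := mon_zz (F := F) hol hoc hlc
  have e1 := tau_o hol hoc
  have e2 := tau_l hoc hlc
  have e3 := tau_c (o := o) (l := l) (c := c)
  rw [eq_mul_inv_iff_mul_eq]
  refine (((mon_Wu hol one_ne_zero).mul (hm.mul hm)).mul (mon_Wu hol one_ne_zero)).ext_eq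
    (hm.congr ?_ fun a => ?_)
  · ext a
    simp only [Perm.mul_apply]
    by_cases h1 : a = o
    · simp only [h1, swap_apply_left, e1, e2, e3]
    · by_cases h2 : a = l
      · simp only [h2, swap_apply_right, e1, e2, e3, swap_apply_of_ne_of_ne hoc.symm hlc.symm]
      · by_cases h3 : a = c
        · simp only [h3, swap_apply_of_ne_of_ne hoc.symm hlc.symm, e1, e2, e3, swap_apply_right]
        · simp only [swap_apply_of_ne_of_ne h1 h2, tau_other h1 h2 h3]
  · simp only [Perm.mul_apply]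
    by_cases h1 : a = o
    · simp [h1, e1, e2, e3]
    · by_cases h2 : a = l
      · simp [h2, e1, e2, e3, hol.symm, hoc.symm, hlc.symm]
      · by_cases h3 : a = c
        · simp [h3, e1, e2, e3, hol.symm, hoc.symm, hlc.symm, swap_apply_of_ne_of_ne hoc.symm hlc.symm]
        · simp [h1, h2, tau_other h1 h2 h3, swap_apply_of_ne_of_ne h1 h2]

/-- First hypotheses. -/
structure Sys1 (φ : Matrix.SpecialLinearGroup I F →* J) (s : J) (o l c : I) : Prop where
  hol : o ≠ l
  hoc : o ≠ c
  hlc : l ≠ c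
  hI : 4 ≤ Fintype.card I
  sq : s * s = 1
  sC : ∀ g, InC o l g → Commute s (φ g)
  sB : ∀ t, MulAut.conj s (φ (X o l t)) = φ (X l o (-t))
  s3 : s * MulAut.conj (φ (zz F o l c)) s * MulAut.conj (φ (zz F o l c * zz F o l c)) s = 1

theorem conj_conj (a b x : J) : MulAut.conj (MulAut.conj a b) (MulAut.conj a x) = MulAut.conj a (MulAut.conj b x) := by
  simp only [MulAut.conj_apply]
  group

/-- signs -/
def Sgn (c : I → F) : Prop := ∀ a, c a = 1 ∨ c a = -1

theorem Sgn.mul {c c' : I → F} (π : Perm I) (h : Sgn c) (h' : Sgn c') : Sgn fun b => c (π b) * c' b := by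
  intro b
  rcases h (π b) with h1 | h1 <;> rcases h' b with h2 | h2 <;> simp [h1, h2]

theorem Sgn.inv {c : I → F} (π : Perm I) (h : Sgn c) : Sgn fun b => (c (π b))⁻¹ := by
  intro b
  rcases h (π b) with h1 | h1
  · left; simp [h1]
  · right; simp only [h1]; rw [inv_neg, inv_one]

theorem sgn_Wu (i j : I) : Sgn fun k => if k = i then -(1 : F)⁻¹ else if k = j then 1 else 1 := by
  intro b
  dsimp only
  split_ifs <;> simp

theorem exists_smon (π : Perm I) :
    ∃ (m : Matrix.SpecialLinearGroup I F) (c : I → F), Mon m π c ∧ Sgn c := by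
  induction π using Perm.swap_induction_on with
  | one => exact ⟨1, _, Mon.one, fun _ => Or.inl rfl⟩
  | swap_mul π i j hij ih =>
    obtain ⟨m, c, hm, hc⟩ := ih
    exact ⟨_, _, (mon_Wu hij one_ne_zero).mul hm, (sgn_Wu i j).mul π hc⟩

theorem exists_perm3 {o l c p q r : I} (h1 : o ≠ l) (h2 : o ≠ c) (h3 : l ≠ c) (h4 : p ≠ q) (h5 : p ≠ r)
    (h6 : q ≠ r) : ∃ π : Perm I, π o = p ∧ π l = q ∧ π c = r := by
  have a1 : swap o p l ≠ p := by
    intro e
    have : l = o := (swap o p).injective (by rw [e, swap_apply_left])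
    exact h1 this.symm
  set l' := swap o p l
  have a2 : swap l' q p = p := swap_apply_of_ne_of_ne a1.symm h4
  have e1 : (swap l' q * swap o p) o = p := by rw [Perm.mul_apply, swap_apply_left, a2]
  have e2 : (swap l' q * swap o p) l = q := by rw [Perm.mul_apply]; exact swap_apply_left _ _
  set c' := (swap l' q * swap o p) c
  have b1 : c' ≠ p := by
    intro e
    exact h2 ((swap l' q * swap o p).injective (e1.trans e.symm))
  have b2 : c' ≠ q := by
    intro e
    exact h3 ((swap l' q * swap o p).injective (e2.trans e.symm))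
  refine ⟨swap c' r * (swap l' q * swap o p), ?_, ?_, ?_⟩
  · rw [Perm.mul_apply, e1, swap_apply_of_ne_of_ne b1.symm h5]
  · rw [Perm.mul_apply, e2, swap_apply_of_ne_of_ne b2.symm h6]
  · rw [Perm.mul_apply]; exact swap_apply_left _ _

theorem exists_out (h : 4 ≤ Fintype.card I) (i j k : I) : ∃ d : I, d ≠ i ∧ d ≠ j ∧ d ≠ k := by
  by_contra hcon
  push Not at hcon
  have : (Finset.univ : Finset I) ⊆ {i, j, k} := by
    intro d _
    simp only [Finset.mem_insert, Finset.mem_singleton]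
    by_cases h1 : d = i
    · exact Or.inl h1
    · by_cases h2 : d = j
      · exact Or.inr (Or.inl h2)
      · exact Or.inr (Or.inr (hcon d h1 h2))
  have h1 := Finset.card_le_card this
  rw [Finset.card_univ] at h1
  have h2 : ({i, j, k} : Finset I).card ≤ 3 := Finset.card_le_three
  omega

namespace Sys1

variable {φ : Matrix.SpecialLinearGroup I F →* J} {s : J} {o l c : I} (A : Sys1 φ s o l c)
include A

theorem inv_s : s⁻¹ = s := inv_eq_of_mul_eq_one_right A.sq

theorem sB' (t : F) : MulAut.conj s (φ (X l o t)) = φ (X o l (-t)) := by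
  have h := A.sB (-t)
  rw [neg_neg] at h
  rw [← h]
  simp only [MulAut.conj_apply]
  have h1 := A.sq
  have h2 := A.inv_s
  rw [h2]
  calc s * (s * φ (X o l (-t)) * s) * s = (s * s) * φ (X o l (-t)) * (s * s) := by group
    _ = _ := by rw [h1, one_mul, mul_one]

theorem comm_W : Commute s (φ (Wu o l 1)) := by
  have h1 : MulAut.conj s (φ (Wu o l 1)) = φ (Wu l o (-1)) := by
    unfold Wu
    rw [map_mul, map_mul, map_mul, map_mul, A.sB, A.sB', map_mul, map_mul]
    simp
  have h2 : (Wu l o (-1) : Matrix.SpecialLinearGroup I F) = Wu o l 1 := by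
    refine (mon_Wu A.hol.symm (neg_ne_zero.2 one_ne_zero)).ext_eq
      ((mon_Wu A.hol one_ne_zero).congr (swap_comm _ _) fun a => ?_)
    by_cases h : a = o
    · subst h; simp [A.hol]
    · by_cases h' : a = l
      · subst h'; simp [h]
      · simp [h, h']
  rw [h2, MulAut.conj_apply, mul_inv_eq_iff_eq_mul] at h1
  exact h1

/-- `s` commutes with the sign change in `l, c`. -/
theorem comm_D : Commute s (φ (zz F o l c * (Wu o l 1 * Wu o l 1) * (zz F o l c)⁻¹)) := by
  have hz3 := zz3 (F := F) A.hol A.hoc A.hlc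
  have hW := zz_W (F := F) A.hol A.hoc A.hlc
  set z := zz F o l c with hz
  set W := Wu (F := F) o l 1 with hWdef
  have hs := A.sq
  have hc := A.comm_W
  rw [← hWdef] at hc
  set s12 := MulAut.conj (φ z) s with h12
  set s20 := MulAut.conj (φ (z * z)) s with h20
  have q12 : s12 * s12 = 1 := by rw [h12, ← map_mul, hs, map_one]
  have q20 : s20 * s20 = 1 := by rw [h20, ← map_mul, hs, map_one]
  have h3 : s * s12 * s20 = 1 := A.s3
  -- conjugation by `W`
  have c20 : MulAut.conj (φ W) s20 = s12 := by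
    rw [h20, ← MulAut.mul_apply, ← map_mul, ← map_mul, hW, map_mul, map_mul, MulAut.mul_apply, map_inv, map_inv]
    have : (MulAut.conj (φ W))⁻¹ s = s := by
      rw [MulAut.conj_inv_apply]
      rw [mul_assoc, hc.eq]; group
    rw [this]
  have cs : MulAut.conj (φ W) s = s := by
    rw [MulAut.conj_apply, ← hc.eq, mul_inv_cancel_right]
  have h4 : s * MulAut.conj (φ W) s12 * s12 = 1 := by
    have := congrArg (MulAut.conj (φ W)) h3
    rwa [map_mul, map_mul, cs, c20, map_one] at this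
  have h5 : MulAut.conj (φ W) s12 = s20 := by
    have e1 : MulAut.conj (φ W) s12 = s * s12 := by
      calc MulAut.conj (φ W) s12 = s⁻¹ * (s * MulAut.conj (φ W) s12 * s12) * s12⁻¹ := by group
        _ = s * s12 := by
          rw [h4, mul_one, inv_eq_of_mul_eq_one_right hs, inv_eq_of_mul_eq_one_right q12]
    have e2 : s20 = s * s12 := by
      have : s20⁻¹ = s * s12 := by
        rw [inv_eq_iff_mul_eq_one]
        rw [mul_eq_one_iff_eq_inv] at h3
        rw [h3, mul_inv_cancel]
      rw [← this, inv_eq_of_mul_eq_one_right q20]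
    rw [e1, e2]
  have h6 : MulAut.conj (φ (W * W)) s20 = s20 := by
    rw [map_mul, map_mul, MulAut.mul_apply, c20, h5]
  have h7 : MulAut.conj (φ z) s20 = s := by
    rw [h20, ← MulAut.mul_apply, ← map_mul, ← map_mul, ← mul_assoc, hz3, map_one, map_one, MulAut.one_apply]
  have h8 : MulAut.conj (φ (z * (W * W) * z⁻¹)) s = s := by
    have : z * (W * W) * z⁻¹ * z = z * (W * W) := by group
    rw [← h7, ← MulAut.mul_apply, ← map_mul, ← map_mul, this, map_mul, map_mul, MulAut.mul_apply, h6, h7]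
  rw [MulAut.conj_apply, mul_inv_eq_iff_eq_mul] at h8
  exact h8.symm

theorem mon_WW : Mon (Wu o l 1 * Wu o l 1) 1 fun a => if a = o ∨ a = l then (-1 : F) else 1 := by
  refine ((mon_Wu A.hol one_ne_zero).mul (mon_Wu A.hol one_ne_zero)).congr (swap_mul_self _ _) fun a => ?_
  by_cases h1 : a = o
  · simp [h1, A.hol.symm]
  · by_cases h2 : a = l
    · simp [h2, A.hol.symm]
    · simp [h1, h2, swap_apply_of_ne_of_ne h1 h2]

theorem mon_D : Mon (zz F o l c * (Wu o l 1 * Wu o l 1) * (zz F o l c)⁻¹) 1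
    fun a => if a = l ∨ a = c then (-1 : F) else 1 := by
  have hm := mon_zz (F := F) A.hol A.hoc A.hlc
  have e1 := tau_o A.hol A.hoc
  have e2 := tau_l A.hoc A.hlc
  refine ((hm.mul A.mon_WW).mul hm.inv).congr (by group) fun a => ?_
  have h1 : (tau o l c)⁻¹ a = o ↔ a = l := by
    rw [Perm.inv_eq_iff_eq, e1]
  have h2 : (tau o l c)⁻¹ a = l ↔ a = c := by
    rw [Perm.inv_eq_iff_eq, e2]
  simp only [h1, h2, inv_one, mul_one, one_mul]

theorem comm_fix {m : Matrix.SpecialLinearGroup I F} {π : Perm I} {e : I → F} (hm : Mon m π e)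
    (h1 : π o = o) (h2 : π l = l) (h3 : e o = 1) (h4 : e l = 1) : Commute s (φ m) := by
  apply A.sC
  intro a
  refine ⟨?_, ?_, ?_, ?_⟩
  · rw [hm.1, h1, h3, one_apply]
  · rw [hm.1, h2, h4, one_apply]
  · rw [hm.1, one_apply]
    by_cases ha : o = a
    · subst ha; rw [h1, h3]
    · rw [if_neg ha, if_neg]
      intro h
      exact ha (π.injective (h1.trans h))
  · rw [hm.1, one_apply]
    by_cases ha : l = a
    · subst ha; rw [h2, h4]
    · rw [if_neg ha, if_neg]
      intro h
      exact ha (π.injective (h2.trans h))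

theorem comm_fix' {m : Matrix.SpecialLinearGroup I F} {π : Perm I} {e : I → F} (hm : Mon m π e) (he : Sgn e)
    (h1 : π o = o) (h2 : π l = l) : Commute s (φ m) := by
  have hWW : Commute s (φ (Wu o l 1 * Wu o l 1)) := by
    rw [map_mul]; exact A.comm_W.mul_right A.comm_W
  have hcl : ∀ m' : Matrix.SpecialLinearGroup I F, Commute s (φ m') → Commute s (φ (m * m')) → Commute s (φ m) := by
    intro m' h h'
    have : φ m = φ (m * m') * (φ m')⁻¹ := by rw [map_mul, mul_inv_cancel_right]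
    rw [this]
    exact h'.mul_right h.inv_right
  rcases he o with ho | ho <;> rcases he l with hl | hl
  · exact A.comm_fix hm h1 h2 ho hl
  · -- sign at `l`
    refine hcl _ A.comm_D (A.comm_fix (hm.mul A.mon_D) h1 h2 ?_ ?_)
    · simp [ho, A.hol, A.hoc]
    · simp [hl]
  · -- sign at `o`
    refine hcl _ (show Commute s (φ ((Wu o l 1 * Wu o l 1) * (zz F o l c * (Wu o l 1 * Wu o l 1) * (zz F o l c)⁻¹)))
      from by rw [map_mul]; exact hWW.mul_right A.comm_D)
      (A.comm_fix (hm.mul (A.mon_WW.mul A.mon_D)) h1 h2 ?_ ?_)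
    · simp [ho, A.hol, A.hoc]
    · simp [hl]
  · refine hcl _ hWW (A.comm_fix (hm.mul A.mon_WW) h1 h2 ?_ ?_)
    · simp [ho]
    · simp [hl]

/-- **The stabilizer of `{o, l}` centralizes `s`.** -/
theorem comm_stab {m : Matrix.SpecialLinearGroup I F} {π : Perm I} {e : I → F} (hm : Mon m π e) (he : Sgn e)
    (h : (π o = o ∧ π l = l) ∨ (π o = l ∧ π l = o)) : Commute s (φ m) := by
  rcases h with h | h
  · exact A.comm_fix' hm he h.1 h.2
  · have h1 : Commute s (φ (m * Wu o l 1)) := by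
      refine A.comm_fix' (hm.mul (mon_Wu A.hol one_ne_zero)) (he.mul (swap o l) (sgn_Wu o l)) ?_ ?_
      · rw [Perm.mul_apply, swap_apply_left, h.2]
      · rw [Perm.mul_apply, swap_apply_right, h.1]
    have : φ m = φ (m * Wu o l 1) * (φ (Wu o l 1))⁻¹ := by rw [map_mul, mul_inv_cancel_right]
    rw [this]
    exact h1.mul_right A.comm_W.inv_right

theorem exists_mm {p q : I} (h : p ≠ q) : ∃ (m : Matrix.SpecialLinearGroup I F) (π : Perm I) (e : I → F),
    Mon m π e ∧ Sgn e ∧ π o = p ∧ π l = q := by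
  obtain ⟨r, hr1, hr2, -⟩ := exists_out A.hI p q q
  obtain ⟨π, h1, h2, -⟩ := exists_perm3 A.hol A.hoc A.hlc h hr1.symm hr2.symm
  obtain ⟨m, e, hm, he⟩ := exists_smon (F := F) π
  exact ⟨m, π, e, hm, he, h1, h2⟩

end Sys1

open Classical in
/-- the sign change in the planes `p`, `q` -/
noncomputable def ss (φ : Matrix.SpecialLinearGroup I F →* J) (s : J) (o l : I) (p q : I) : J :=
  if h : p ≠ q ∧ ∃ (m : Matrix.SpecialLinearGroup I F) (π : Perm I) (e : I → F),
    Mon m π e ∧ Sgn e ∧ π o = p ∧ π l = q then MulAut.conj (φ h.2.choose) s else 1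

theorem ss_self (φ : Matrix.SpecialLinearGroup I F →* J) (s : J) (o l p : I) : ss φ s o l p p = 1 :=
  dif_neg (fun h => h.1 rfl)

namespace Sys1

variable {φ : Matrix.SpecialLinearGroup I F →* J} {s : J} {o l c : I} (A : Sys1 φ s o l c)
include A

theorem ss_spec {p q : I} (h : p ≠ q) : ∃ (m : Matrix.SpecialLinearGroup I F) (π : Perm I) (e : I → F),
    Mon m π e ∧ Sgn e ∧ π o = p ∧ π l = q ∧ ss φ s o l p q = MulAut.conj (φ m) s := by
  have h' := A.exists_mm h
  refine ⟨h'.choose, h'.choose_spec.choose, h'.choose_spec.choose_spec.choose,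
    h'.choose_spec.choose_spec.choose_spec.1, h'.choose_spec.choose_spec.choose_spec.2.1,
    h'.choose_spec.choose_spec.choose_spec.2.2.1, h'.choose_spec.choose_spec.choose_spec.2.2.2, ?_⟩
  exact dif_pos ⟨h, h'⟩

theorem ss_of {m : Matrix.SpecialLinearGroup I F} {π : Perm I} {e : I → F} (hm : Mon m π e) (he : Sgn e)
    {p q : I} (h : (π o = p ∧ π l = q) ∨ (π o = q ∧ π l = p)) : ss φ s o l p q = MulAut.conj (φ m) s := by
  have hpq : p ≠ q := by
    rcases h with h | h
    · rw [← h.1, ← h.2]; exact π.injective.ne A.hol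
    · rw [← h.1, ← h.2]; exact π.injective.ne A.hol.symm
  obtain ⟨m', π', e', hm', he', h1, h2, h3⟩ := A.ss_spec hpq
  rw [h3]
  have h4 := A.comm_stab (hm'.inv.mul hm) ((he'.inv π'⁻¹).mul π he) (by
    simp only [Perm.mul_apply, Perm.inv_eq_iff_eq]
    rcases h with h | h
    · left; rw [h.1, h.2, h1, h2]; exact ⟨rfl, rfl⟩
    · right; rw [h.1, h.2, h1, h2]; exact ⟨rfl, rfl⟩)
  have h5 : MulAut.conj (φ (m'⁻¹ * m)) s = s := by
    rw [MulAut.conj_apply, ← h4.eq, mul_inv_cancel_right]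
  have h6 : m = m' * (m'⁻¹ * m) := by group
  rw [h6, map_mul, map_mul, MulAut.mul_apply, h5]

theorem ss_symm (p q : I) : ss φ s o l p q = ss φ s o l q p := by
  by_cases h : p = q
  · rw [h]
  · obtain ⟨m, π, e, hm, he, h1, h2, h3⟩ := A.ss_spec h
    rw [h3, A.ss_of hm he (Or.inr ⟨h1, h2⟩)]

theorem ss_ol : ss φ s o l o l = s := by
  have h := A.ss_of (p := o) (q := l) Mon.one (fun _ => Or.inl rfl) (Or.inl ⟨rfl, rfl⟩)
  rw [h, map_one, map_one, MulAut.one_apply]

theorem ss_conj {m : Matrix.SpecialLinearGroup I F} {π : Perm I} {e : I → F} (hm : Mon m π e) (he : Sgn e)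
    (p q : I) : MulAut.conj (φ m) (ss φ s o l p q) = ss φ s o l (π p) (π q) := by
  by_cases h : p = q
  · rw [h, ss_self, ss_self, map_one]
  · obtain ⟨m', π', e', hm', he', h1, h2, h3⟩ := A.ss_spec h
    rw [h3, ← MulAut.mul_apply, ← map_mul, ← map_mul]
    symm
    refine A.ss_of (hm.mul hm') (he.mul π' he') (Or.inl ⟨?_, ?_⟩)
    · rw [Perm.mul_apply, h1]
    · rw [Perm.mul_apply, h2]

theorem ss_sq (p q : I) : ss φ s o l p q * ss φ s o l p q = 1 := by
  by_cases h : p = q
  · rw [h, ss_self, one_mul]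
  · obtain ⟨m', π', e', hm', he', h1, h2, h3⟩ := A.ss_spec h
    rw [h3, ← map_mul, A.sq, map_one]

theorem ss_inv (p q : I) : (ss φ s o l p q)⁻¹ = ss φ s o l p q := inv_eq_of_mul_eq_one_right (A.ss_sq p q)

theorem ss_mul (p q r : I) : ss φ s o l p q * ss φ s o l q r = ss φ s o l p r := by
  by_cases h1 : p = q
  · rw [h1, ss_self, one_mul]
  by_cases h2 : q = r
  · rw [h2, ss_self, mul_one]
  by_cases h3 : p = r
  · rw [h3, ss_self, A.ss_symm, A.ss_sq]
  obtain ⟨π, h4, h5, h6⟩ := exists_perm3 A.hol A.hoc A.hlc h1 h3 h2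
  obtain ⟨m, e, hm, he⟩ := exists_smon (F := F) π
  have hz := mon_zz (F := F) A.hol A.hoc A.hlc
  have e1 : MulAut.conj (φ (zz F o l c)) s = ss φ s o l l c := by
    symm
    exact A.ss_of hz (fun _ => Or.inl rfl) (Or.inl ⟨tau_o A.hol A.hoc, tau_l A.hoc A.hlc⟩)
  have e2 : MulAut.conj (φ (zz F o l c * zz F o l c)) s = ss φ s o l o c := by
    symm
    refine A.ss_of (hz.mul hz) (fun _ => Or.inl (by norm_num)) (Or.inr ⟨?_, ?_⟩)
    · rw [Perm.mul_apply, tau_o A.hol A.hoc, tau_l A.hoc A.hlc]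
    · rw [Perm.mul_apply, tau_l A.hoc A.hlc, tau_c]
  have h7 := A.s3
  rw [e1, e2, mul_eq_one_iff_eq_inv, A.ss_inv] at h7
  have h8 : ss φ s o l o l * ss φ s o l l c = ss φ s o l o c := by rw [A.ss_ol, h7]
  have h9 := congrArg (MulAut.conj (φ m)) h8
  rwa [map_mul, A.ss_conj hm he, A.ss_conj hm he, A.ss_conj hm he, h4, h5, h6] at h9

theorem ss_comm (p q r t : I) : Commute (ss φ s o l p q) (ss φ s o l r t) := by
  have key : ∀ b x y, ss φ s o l b x * ss φ s o l b y = ss φ s o l x y := by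
    intro b x y
    rw [A.ss_symm b x, A.ss_mul]
  have key2 : ∀ b x y, Commute (ss φ s o l b x) (ss φ s o l b y) := by
    intro b x y
    rw [Commute, SemiconjBy, key, key, A.ss_symm]
  rw [← A.ss_mul p o q, ← A.ss_mul r o t, A.ss_symm p o, A.ss_symm r o]
  exact ((key2 _ _ _).mul_left (key2 _ _ _)).mul_right ((key2 _ _ _).mul_left (key2 _ _ _))

theorem ss_X {p q k j : I} (hpk : p ≠ k) (hpj : p ≠ j) (hqk : q ≠ k) (hqj : q ≠ j) (t : F) :
    Commute (ss φ s o l p q) (φ (X k j t)) := by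
  by_cases h : p = q
  · rw [h, ss_self]; exact Commute.one_left _
  by_cases hkj : k = j
  · have : X k j t = 1 := dif_neg (by simpa using hkj)
    rw [this, map_one]; exact Commute.one_right _
  obtain ⟨m, π, e, hm, he, h1, h2, h3⟩ := A.ss_spec h
  obtain ⟨k', hk'⟩ := π.surjective k
  obtain ⟨j', hj'⟩ := π.surjective j
  have a1 : o ≠ k' := by rintro h; apply hpk; rw [← h1, h, hk']
  have a2 : o ≠ j' := by rintro h; apply hpj; rw [← h1, h, hj']
  have a3 : l ≠ k' := by rintro h; apply hqk; rw [← h2, h, hk']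
  have a4 : l ≠ j' := by rintro h; apply hqj; rw [← h2, h, hj']
  have a5 : k' ≠ j' := by rintro h; apply hkj; rw [← hk', ← hj', h]
  have h4 : ∀ u, Commute s (φ (X k' j' u)) := by
    intro u
    apply A.sC
    intro a
    simp only [coe_X a5, Matrix.add_apply, single_apply]
    refine ⟨?_, ?_, ?_, ?_⟩
    · simp [a2.symm]
    · simp [a4.symm]
    · simp [a1.symm]
    · simp [a3.symm]
  have h5 := hm.conj_X a5 ((e k')⁻¹ * t * (e j'))
  rw [hk', hj'] at h5
  have h6 : e k' * ((e k')⁻¹ * t * e j') * (e j')⁻¹ = t := by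
    have := hm.2 k'
    have := hm.2 j'
    field_simp
  rw [h6] at h5
  rw [h3, ← h5, map_mul, map_mul, map_inv, ← MulAut.conj_apply]
  exact (h4 _).map (MulAut.conj (φ m))

theorem ss_X' {p q : I} (h : p ≠ q) (t : F) :
    MulAut.conj (ss φ s o l p q) (φ (X p q t)) = φ (X q p (-t)) := by
  obtain ⟨m, π, e, hm, he, h1, h2, h3⟩ := A.ss_spec h
  have h5 := hm.conj_X A.hol ((e o)⁻¹ * t * (e l))
  rw [h1, h2] at h5
  have h6 : e o * ((e o)⁻¹ * t * e l) * (e l)⁻¹ = t := by
    have := hm.2 o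
    have := hm.2 l
    field_simp
  rw [h6] at h5
  have h7 := hm.conj_X A.hol.symm (-((e o)⁻¹ * t * (e l)))
  rw [h1, h2] at h7
  have h8 : e l * -((e o)⁻¹ * t * e l) * (e o)⁻¹ = -t := by
    have e1 : e l * e l = 1 := by rcases he l with hl | hl <;> rw [hl] <;> norm_num
    have e2 : (e o)⁻¹ * (e o)⁻¹ = 1 := by
      rcases he o with hl | hl
      · rw [hl]; norm_num
      · rw [hl, inv_neg, inv_one]; norm_num
    calc e l * -((e o)⁻¹ * t * e l) * (e o)⁻¹ = -((e l * e l) * ((e o)⁻¹ * (e o)⁻¹) * t) := by ring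
      _ = _ := by rw [e1, e2, one_mul, one_mul]
  rw [h8] at h7
  have h9 := congrArg (MulAut.conj (φ m)) (A.sB ((e o)⁻¹ * t * (e l)))
  have h10 : ∀ x, φ (m * x * m⁻¹) = MulAut.conj (φ m) (φ x) := fun x => by
    rw [map_mul, map_mul, map_inv, MulAut.conj_apply]
  rw [h3, ← h5, ← h7, h10, h10, conj_conj, h9]

end Sys1

end Cfsg.Agent.H110.D
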