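import Cfsg.Agent.H110.D.Comm

/-!
# The abstract group of type `D`: Weyl elements and torus (helper110, for S2295)
-/

set_option autoImplicit false

namespace Cfsg.Agent.H110.D

open Equiv Matrix

section rho

variable {I : Type*} [DecidableEq I]

/-- the reflection of the root `a + b` on signed indices -/
def rho (a b x : I ⊕ I) : I ⊕ I :=
  if idx x = idx a then (if x = a then ng b else b) else
    if idx x = idx b then (if x = b then ng a else a) else x

theorem eq_or_ng {x y : I ⊕ I} (h : idx x = idx y) : x = y ∨ x = ng y := by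
  rcases x with x | x <;> rcases y with y | y <;> simp only [idx_inl, idx_inr] at h <;> subst h <;> simp

theorem ng_ne (x : I ⊕ I) : ng x ≠ x := by rcases x with x | x <;> simp

theorem rho_left (a b : I ⊕ I) : rho a b a = ng b := by simp [rho]
theorem rho_left' (a b : I ⊕ I) : rho a b (ng a) = b := by simp [rho, ng_ne]
theorem rho_right {a b : I ⊕ I} (hab : idx a ≠ idx b) : rho a b b = ng a := by simp [rho, hab.symm]
theorem rho_right' {a b : I ⊕ I} (hab : idx a ≠ idx b) : rho a b (ng b) = a := by simp [rho, hab.symm, ng_ne]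
theorem rho_other {a b x : I ⊕ I} (h1 : idx x ≠ idx a) (h2 : idx x ≠ idx b) : rho a b x = x := by
  simp [rho, h1, h2]

/-- case analysis -/
theorem rho_cases {a b : I ⊕ I} (Q : I ⊕ I → Prop) (h1 : Q a) (h2 : Q (ng a)) (h3 : Q b) (h4 : Q (ng b))
    (h5 : ∀ x, idx x ≠ idx a → idx x ≠ idx b → Q x) (x : I ⊕ I) : Q x := by
  by_cases ha : idx x = idx a
  · rcases eq_or_ng ha with rfl | rfl
    · exact h1
    · exact h2
  · by_cases hb : idx x = idx b
    · rcases eq_or_ng hb with rfl | rfl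
      · exact h3
      · exact h4
    · exact h5 x ha hb

theorem idx_rho {a b : I ⊕ I} (hab : idx a ≠ idx b) (x : I ⊕ I) : idx (rho a b x) = swap (idx a) (idx b) (idx x) := by
  refine rho_cases (a := a) (b := b) (fun x => idx (rho a b x) = swap (idx a) (idx b) (idx x)) ?_ ?_ ?_ ?_ ?_ x
  · rw [rho_left, idx_ng, swap_apply_left]
  · rw [rho_left', idx_ng, swap_apply_left]
  · rw [rho_right hab, idx_ng, swap_apply_right]
  · rw [rho_right' hab, idx_ng, swap_apply_right]
  · intro x h1 h2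
    rw [rho_other h1 h2, swap_apply_of_ne_of_ne h1 h2]

theorem rho_ng {a b : I ⊕ I} (hab : idx a ≠ idx b) (x : I ⊕ I) : rho a b (ng x) = ng (rho a b x) := by
  refine rho_cases (a := a) (b := b) (fun x => rho a b (ng x) = ng (rho a b x)) ?_ ?_ ?_ ?_ ?_ x
  · rw [rho_left, rho_left', ng_ng]
  · rw [ng_ng, rho_left, rho_left']
  · rw [rho_right hab, rho_right' hab, ng_ng]
  · rw [ng_ng, rho_right hab, rho_right' hab]
  · intro x h1 h2
    rw [rho_other h1 h2, rho_other (by simpa using h1) (by simpa using h2)]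

theorem rho_rho {a b : I ⊕ I} (hab : idx a ≠ idx b) (x : I ⊕ I) : rho a b (rho a b x) = x := by
  refine rho_cases (a := a) (b := b) (fun x => rho a b (rho a b x) = x) ?_ ?_ ?_ ?_ ?_ x
  · rw [rho_left, rho_right' hab]
  · rw [rho_left', rho_right hab]
  · rw [rho_right hab, rho_left']
  · rw [rho_right' hab, rho_left]
  · intro x h1 h2
    rw [rho_other h1 h2, rho_other h1 h2]

theorem rho_fl {a b : I ⊕ I} (hab : idx a ≠ idx b) (p : I) (x : I ⊕ I) :
    rho (fl p a) (fl p b) (fl p x) = fl p (rho a b x) := by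
  have hab' : idx (fl p a) ≠ idx (fl p b) := by simpa using hab
  refine rho_cases (a := a) (b := b) (fun x => rho (fl p a) (fl p b) (fl p x) = fl p (rho a b x)) ?_ ?_ ?_ ?_ ?_ x
  · rw [rho_left, rho_left, ng_fl]
  · rw [rho_left', ← ng_fl, rho_left']
  · rw [rho_right hab, rho_right hab', ng_fl]
  · rw [rho_right' hab, ← ng_fl, rho_right' hab']
  · intro x h1 h2
    rw [rho_other h1 h2, rho_other (by simpa using h1) (by simpa using h2)]

theorem rho_map {i j : I} (hij : i ≠ j) (x : I ⊕ I) :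
    rho (.inr i) (.inl j) x = Sum.map (swap j i) (swap j i) x := by
  refine rho_cases (a := .inr i) (b := .inl j)
    (fun x => rho (.inr i) (.inl j) x = Sum.map (swap j i) (swap j i) x) ?_ ?_ ?_ ?_ ?_ x
  · rw [rho_left]; simp
  · rw [rho_left']; simp
  · rw [rho_right (by simpa using hij)]; simp
  · rw [rho_right' (by simpa using hij)]; simp
  · intro x h1 h2
    rw [rho_other h1 h2]
    rcases x with x | x <;> simp only [idx_inl, idx_inr] at h1 h2 <;>
      simp [swap_apply_of_ne_of_ne h2 h1]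

end rho

variable {I F : Type*} [Fintype I] [DecidableEq I] [Field F] {J : Type*} [Group J] {P : Pre I F J}

namespace Pre.S1

variable (A : P.S1)
include A

theorem WW_inv {a b : I ⊕ I} (u : F) : (P.WW a b u)⁻¹ = P.WW a b (-u) := by
  unfold WW
  rw [_root_.mul_inv_rev, _root_.mul_inv_rev, A.Y_inv, A.Y_inv, inv_neg, ← mul_assoc]

theorem WW_base (i j : I) (u : F) : P.WW (.inr j) (.inl i) u = P.φ (Wu i j u) := by
  unfold WW Wu
  simp only [ng_inl, ng_inr, Y_rl, Y_lr, map_mul]

/-- conjugation by Weyl elements -/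
theorem WW_conj {a b : I ⊕ I} (hab : idx a ≠ idx b) : ∀ c d : I ⊕ I, idx c ≠ idx d →
    ∃ κ : F, (κ = 1 ∨ κ = -1) ∧
      (∀ t, MulAut.conj (P.WW a b 1) (P.Y c d t) = P.Y (rho a b c) (rho a b d) (κ * t)) ∧
      ∀ t, MulAut.conj (P.WW a b 1) (P.Y (ng c) (ng d) t) = P.Y (ng (rho a b c)) (ng (rho a b d)) (κ * t) := by
  refine A.flips (Q := fun a b => ∀ c d : I ⊕ I, idx c ≠ idx d →
    ∃ κ : F, (κ = 1 ∨ κ = -1) ∧
      (∀ t, MulAut.conj (P.WW a b 1) (P.Y c d t) = P.Y (rho a b c) (rho a b d) (κ * t)) ∧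
      ∀ t, MulAut.conj (P.WW a b 1) (P.Y (ng c) (ng d) t) = P.Y (ng (rho a b c)) (ng (rho a b d)) (κ * t)) hab ?_
    (a₀ := .inr (idx a)) (b₀ := .inl (idx b)) rfl rfl ?_ rfl rfl
  · intro a' b' p q ha hb h c d hcd
    have hab' : idx a' ≠ idx b' := by rw [ha, hb]; exact hab
    have e : ∀ a : I ⊕ I, fl p (fl q (fl p (fl q a))) = a := by
      intro a
      rw [fl_comm q p, fl_fl, fl_fl]
    obtain ⟨κ, k1, k2, k3⟩ := h (fl p (fl q c)) (fl p (fl q d)) (by simpa using hcd)
    have hr : ∀ x, rho (fl p (fl q a')) (fl p (fl q b')) x = fl p (fl q (rho a' b' (fl p (fl q x)))) := by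
      intro x
      rw [← rho_fl hab', ← rho_fl (by simpa using hab'), e]
    have h1 : idx (rho a' b' (fl p (fl q c))) ≠ idx (rho a' b' (fl p (fl q d))) := by
      rw [idx_rho hab', idx_rho hab']
      intro e
      exact hcd (by simpa using (swap _ _).injective e)
    refine ⟨κ, k1, fun t => ?_, fun t => ?_⟩
    · have h2 := congrArg (MulAut.conj (P.σ p q)) (k2 t)
      rw [← conj_conj, A.fl_WW hab', A.fl_conj (by simpa using hcd), A.fl_conj h1, e, e, ← hr, ← hr] at h2
      exact h2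
    · have h2 := congrArg (MulAut.conj (P.σ p q)) (k3 t)
      rw [← conj_conj, A.fl_WW hab', A.fl_conj (by simpa using hcd), A.fl_conj (by simpa using h1)] at h2
      rw [hr, hr]
      simp only [ng_fl] at h2 ⊢
      rw [e, e] at h2
      exact h2
  · intro c d hcd
    rw [A.WW_base]
    have hij : idx b ≠ idx a := hab.symm
    have hm := mon_Wu (F := F) hij one_ne_zero
    have he := sgn_Wu (F := F) (idx b) (idx a)
    rw [rho_map hab, rho_map hab]
    refine ⟨_, ?_, fun t => A.mon_conj hm he hcd t, fun t => ?_⟩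
    · rcases he (idx c) with h1 | h1 <;> rcases he (idx d) with h2 | h2 <;>
        · simp only at h1 h2
          rw [h1, h2]
          simp
    · have h := A.mon_conj hm he (a := ng c) (b := ng d) (by simpa using hcd) t
      rw [idx_ng, idx_ng] at h
      rw [h]
      have e : ∀ x : I ⊕ I, Sum.map (swap (idx b) (idx a)) (swap (idx b) (idx a)) (ng x) =
          ng (Sum.map (swap (idx b) (idx a)) (swap (idx b) (idx a)) x) := by
        intro x; rcases x with x | x <;> rfl
      rw [e, e]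

theorem HH_mul {a b : I ⊕ I} (hab : idx a ≠ idx b) {u v : F} (hu : u ≠ 0) (hv : v ≠ 0) :
    P.HH a b (u * v) = P.HH a b u * P.HH a b v := by
  obtain ⟨x, -, -, -, h⟩ := A.exists_conj' hab
  rw [h, h, h, ← map_mul, ← map_mul, Hd_mul hab.symm hu hv]

theorem HH_one {a b : I ⊕ I} (hab : idx a ≠ idx b) : P.HH a b 1 = 1 := by
  have h := A.HH_mul hab one_ne_zero one_ne_zero
  rw [mul_one] at h
  exact mul_eq_left.1 h.symm

theorem HH_inv {a b : I ⊕ I} (hab : idx a ≠ idx b) {u : F} (hu : u ≠ 0) : (P.HH a b u)⁻¹ = P.HH a b u⁻¹ := by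
  rw [inv_eq_iff_mul_eq_one, ← A.HH_mul hab hu (inv_ne_zero hu), mul_inv_cancel₀ hu, A.HH_one hab]

theorem HH_div {a b : I ⊕ I} (u v : F) :
    P.WW a b u * P.WW a b (-v) = P.HH a b u * (P.HH a b v)⁻¹ := by
  unfold HH
  rw [_root_.mul_inv_rev, A.WW_inv v, A.WW_inv (-1), neg_neg, ← mul_assoc, mul_assoc (P.WW a b u)]
  have : P.WW a b (-1) * P.WW a b 1 = 1 := by rw [← A.WW_inv, inv_mul_cancel]
  rw [this, mul_one]

theorem HH_symm {a b : I ⊕ I} (hab : idx a ≠ idx b) {u : F} (hu : u ≠ 0) : P.HH b a u = P.HH a b u := by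
  have h1 : ∀ v, P.WW b a v = P.WW a b (-v) := by
    intro v
    unfold WW
    rw [A.Y_symm hab, A.Y_symm (a := ng a) (b := ng b) (by simpa using hab), inv_neg]
  obtain ⟨x, -, -, h2, h3⟩ := A.exists_conj' hab
  unfold HH
  rw [h1, h1, neg_neg, h2, h2, ← map_mul, ← map_mul, Wu_neg_mul hab.symm hu, ← h3]
  rfl

theorem HH_ng {a b : I ⊕ I} (hab : idx a ≠ idx b) {u : F} (hu : u ≠ 0) : P.HH (ng a) (ng b) u = P.HH a b u⁻¹ := by
  obtain ⟨x, h1, h2, h3, h4⟩ := A.exists_conj' hab
  have h5 : ∀ v, P.WW (ng a) (ng b) v = MulAut.conj x (P.φ (Wu (idx a) (idx b) (-v))) := by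
    intro v
    unfold WW Wu
    rw [ng_ng, ng_ng, h1, h2, ← map_mul, ← map_mul, ← map_mul, ← map_mul, inv_neg, neg_neg]
  unfold HH
  rw [h5, h5, neg_neg, ← map_mul, ← map_mul, Wu_neg_mul hab hu, Hd_symm hab.symm hu, ← h4]
  rfl

/-- elements acting by scalars centralize the torus -/
theorem Scal_comm {g : J} (hg : P.Scal g) {a b : I ⊕ I} (hab : idx a ≠ idx b) {u : F} (hu : u ≠ 0) :
    MulAut.conj g (P.HH a b u) = P.HH a b u := by
  obtain ⟨κ, h1, h2, h3⟩ := hg a b hab
  have h4 : ∀ v, MulAut.conj g (P.WW a b v) = P.WW a b (κ * v) := by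
    intro v
    unfold WW
    rw [map_mul, map_mul, h2, h3, mul_inv]
  have : MulAut.conj g (P.HH a b u) = P.WW a b (κ * u) * P.WW a b (-κ) := by
    unfold HH
    rw [map_mul, h4, h4, mul_neg, mul_one]
  rw [this, A.HH_div, mul_comm κ u, A.HH_mul hab hu h1, mul_inv_cancel_right]

end Pre.S1

end Cfsg.Agent.H110.D
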